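import Cfsg.Agent.H384.LargeIdx
import Cfsg.Agent.H867.SporMI
import Cfsg.Agent.H848.MonsterSetup
import Cfsg.Agent.MonsterU.AmalElts
import Cfsg.Agent.MonsterU.AmalPerf

/-!
# The minimal degree of the Monster is at least `672 * 2 ^ 13 = 5505024` (helper581)
-/

set_option autoImplicit false

namespace Cfsg.Agent.H581.MonMI

open Cfsg Cfsg.Agent.Co2Type.Quad
open Cfsg.Agent.SporadicA Cfsg.Agent.SporadicA.Co1Simple
open Cfsg.Agent.CoOneType.CoOneE (pr pr_surjective E)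
open Cfsg.Agent.MonsterU.Lam2 (L2 cl cl_surjective bf qf add_self neg_eq irreducible)
open Cfsg.Agent.MonsterU.CoFrameL2 Cfsg.Agent.MonsterU.Ch
open Cfsg.Spor (Co1)

variable {G : Type*} [Group G] {Q : Subgroup G} {z : G} {eta : G → L2}
  {pi : Subgroup.centralizer ({z} : Set G) →* Co1}

/-- `Q/⟨z⟩` is irreducible. -/
theorem irr (h : Chart Q z eta pi) : H384.LargeIdx.Irr Q z := by
  intro N hN hinv
  let U : AddSubgroup L2 :=
    { carrier := {v | ∃ x ∈ N, eta x = v}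
      zero_mem' := ⟨1, N.one_mem, h.eta_one⟩
      add_mem' := by
        rintro _ _ ⟨x, hx, rfl⟩ ⟨y, hy, rfl⟩
        exact ⟨x * y, N.mul_mem hx hy, h.eta_mul x (hN hx) y (hN hy)⟩
      neg_mem' := by
        rintro _ ⟨x, hx, rfl⟩
        exact ⟨x, hx, (neg_eq _).symm⟩ }
  have hmemU : ∀ v, v ∈ U ↔ ∃ x ∈ N, eta x = v := fun _ => Iff.rfl
  have hU : ∀ g : Co0, ∀ x ∈ U, g • x ∈ U := by
    rintro g _ ⟨x, hx, rfl⟩
    obtain ⟨c, hc⟩ := h.pi_surj (pr g)
    refine ⟨(c : G) * x * (c : G)⁻¹, hinv _ (Subgroup.mem_centralizer_singleton_iff.1 c.2) x hx, ?_⟩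
    rw [h.eta_conj c x (hN hx), hc, pr_smul]
  rcases irreducible U hU with e | e
  · left
    intro n hn
    have h1 : eta n ∈ U := ⟨n, hn, rfl⟩
    rw [e] at h1
    exact (h.eta_zero n (hN hn)).1 (AddSubgroup.mem_bot.1 h1)
  · right
    have hall : ∀ v : L2, ∃ x ∈ N, eta x = v := fun v => (hmemU v).1 (by rw [e]; trivial)
    have hz : z ∈ N := by
      obtain ⟨v, -, w, -, hvw⟩ := Cfsg.Agent.MonsterU.AmalPerf.exists_pair
      obtain ⟨x, hx, rfl⟩ := hall v
      obtain ⟨y, hy, rfl⟩ := hall w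
      have h1 := (h.comm_z_iff (hN hx) (hN hy)).2 hvw
      have h2 : z = (y * x)⁻¹ * (x * y) := by rw [h1]; group
      rw [h2]
      exact N.mul_mem (N.inv_mem (N.mul_mem hy hx)) (N.mul_mem hx hy)
    refine le_antisymm hN fun q hq => ?_
    obtain ⟨x, hx, hxq⟩ := hall (eta q)
    rcases (h.eta_eq hq (hN hx)).1 hxq.symm with h1 | h1
    · rw [h1]; exact hx
    · rw [h1]; exact N.mul_mem hx hz

/-- **The minimal degree of the Monster.** -/
theorem monster : H867.MinIdx.MI Spor.Monster 5505024 := by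
  have := Cfsg.Agent.H848.MonsterSetup.finite
  have hs : IsSimpleGroup Spor.Monster := MonsterP.Equiv.isM.1
  obtain ⟨Q, z, eta, pi, -, -, h, -, -, -, -⟩ := Cfsg.Agent.H848.MonsterSetup.exists_setup
  exact H384.LargeIdx.mi h.large (n := 12) h.card_Q (irr h) (by norm_num) pi h.pi_surj (fun c => h.pi_eq_one c)
    H867.SporMI.co1 (by norm_num) (by norm_num)

end Cfsg.Agent.H581.MonMI
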