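import Mathlib
import Cfsg.Prelude.Def_CaseTheorems
import Cfsg.Agent.Lib.Cores
import Cfsg.Agent.Lib.VonDyck

/-!
# Sims' theorem: the quotient by the odd core, abstract form
-/

set_option autoImplicit false

open Subgroup

namespace Cfsg.Agent.H581.Sims

variable {X : Type*} [Group X]

/-- Commuting involutions coincide in a group of order not divisible by four. -/
theorem eq_of_commute_invol [Finite X] (h4 : ¬ 4 ∣ Nat.card X) {x s : X} (hx : x * x = 1) (hs : s * s = 1)
    (hx1 : x ≠ 1) (hs1 : s ≠ 1) (hxs : x * s = s * x) : x = s := by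
  by_contra hne
  apply h4
  have hox : orderOf x = 2 := orderOf_eq_prime (by rw [pow_two, hx]) hx1
  set C := Subgroup.centralizer ({x} : Set X) with hC
  have hxC : x ∈ C := by rw [hC, mem_centralizer_singleton_iff]
  have hsC : s ∈ C := by rw [hC, mem_centralizer_singleton_iff]; exact hxs.symm
  set Z := (zpowers x).subgroupOf C with hZ
  have hZle : zpowers x ≤ C := by rwa [zpowers_le]
  have hsZ : s ∉ zpowers x := by
    rw [mem_zpowers_iff]
    rintro ⟨k, hk⟩
    rcases Int.even_or_odd' k with ⟨l, rfl | rfl⟩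
    · rw [zpow_mul, zpow_two, hx, one_zpow] at hk
      exact hs1 hk.symm
    · rw [zpow_add, zpow_mul, zpow_two, hx, one_zpow, one_mul, zpow_one] at hk
      exact hne hk
  have hZn : Z.Normal := by
    refine ⟨fun n hn c => ?_⟩
    have h1 : (n : X) ∈ zpowers x := hn
    have h2 : (c : X) * n * (c : X)⁻¹ = n := by
      obtain ⟨k, hk⟩ := mem_zpowers_iff.1 h1
      have h3 : Commute (c : X) x := mem_centralizer_singleton_iff.1 c.2
      rw [← hk, (h3.zpow_right k).eq, mul_inv_cancel_right]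
    show (c : X) * n * (c : X)⁻¹ ∈ zpowers x
    rw [h2]
    exact h1
  have hcardZ : Nat.card Z = 2 := by
    rw [hZ, Nat.card_congr (subgroupOfEquivOfLe hZle).toEquiv, Nat.card_zpowers, hox]
  have h2 : 2 ∣ Nat.card (C ⧸ Z) := by
    have h3 : orderOf (QuotientGroup.mk ⟨s, hsC⟩ : C ⧸ Z) = 2 := by
      refine orderOf_eq_prime ?_ ?_
      · rw [pow_two, ← QuotientGroup.mk_mul]
        have : (⟨s, hsC⟩ : C) * ⟨s, hsC⟩ = 1 := Subtype.ext hs
        rw [this, QuotientGroup.mk_one]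
      · rw [Ne, QuotientGroup.eq_one_iff]
        exact hsZ
    rw [← h3]
    exact orderOf_dvd_natCard _
  have h5 : Nat.card C = Nat.card (C ⧸ Z) * Nat.card Z := Subgroup.card_eq_card_quotient_mul_card_subgroup Z
  have h6 : Nat.card C ∣ Nat.card X := Subgroup.card_subgroup_dvd_card C
  refine dvd_trans ?_ h6
  rw [h5, hcardZ]
  exact Nat.mul_dvd_mul h2 dvd_rfl

/-- The product of two involutions has odd order if the order of the group is not divisible by four. -/
theorem odd_orderOf [Finite X] (h4 : ¬ 4 ∣ Nat.card X) {x z : X} (hx : x * x = 1) (hz : z * z = 1)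
    (hx1 : x ≠ 1) (hz1 : z ≠ 1) : Odd (orderOf (x * z)) := by
  by_contra hcon
  rw [Nat.not_odd_iff_even] at hcon
  obtain ⟨l, hl⟩ := hcon
  have hpos : 0 < orderOf (x * z) := orderOf_pos _
  have hs : (x * z) ^ l * (x * z) ^ l = 1 := by rw [← pow_add, ← hl, pow_orderOf_eq_one]
  have hs1 : (x * z) ^ l ≠ 1 := by
    intro h
    have := orderOf_dvd_of_pow_eq_one h
    have := Nat.le_of_dvd (by omega) this
    omega
  have hxi : x⁻¹ = x := inv_eq_of_mul_eq_one_left hx
  have hzi : z⁻¹ = z := inv_eq_of_mul_eq_one_left hz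
  have hsi : ((x * z) ^ l)⁻¹ = (x * z) ^ l := inv_eq_of_mul_eq_one_left hs
  have h1 : x * (x * z) ^ l * x⁻¹ = (x * z) ^ l := by
    rw [← conj_pow]
    have : x * (x * z) * x⁻¹ = (x * z)⁻¹ := by rw [mul_inv_rev, hxi, hzi, ← mul_assoc, hx, one_mul]
    rw [this, inv_pow, hsi]
  have h2 : z * (x * z) ^ l * z⁻¹ = (x * z) ^ l := by
    rw [← conj_pow]
    have : z * (x * z) * z⁻¹ = (x * z)⁻¹ := by
      calc z * (x * z) * z⁻¹ = z * x := by group
        _ = z⁻¹ * x⁻¹ := by rw [hxi, hzi]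
        _ = (x * z)⁻¹ := by group
    rw [this, inv_pow, hsi]
  have e1 := eq_of_commute_invol h4 hx hs hx1 hs1 (mul_inv_eq_iff_eq_mul.1 h1)
  have e2 := eq_of_commute_invol h4 hz hs hz1 hs1 (mul_inv_eq_iff_eq_mul.1 h2)
  apply hs1
  rw [← e2] at e1
  rw [e1, hz, one_pow]

/-- Quotient by the odd core. -/
theorem quot_equiv [Finite X] {M : Type*} [Group M] (f : X →* M) (hf : Function.Surjective f)
    (hker : (Nat.card f.ker).Coprime 2) (hM : Cfsg.pPrimeCore 2 M = ⊥) : Nonempty (X ⧸ Cfsg.oddCore X ≃* M) := by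
  have h1 : f.ker = Cfsg.pPrimeCore 2 X := by
    refine le_antisymm (Lib.Cores.le_pPrimeCore inferInstance hker) ?_
    have hn := Lib.Cores.pPrimeCore_normal (G := X) 2
    have h2 : (Cfsg.pPrimeCore 2 X).map f ≤ Cfsg.pPrimeCore 2 M := by
      refine Lib.Cores.le_pPrimeCore (hn.map f hf) ?_
      exact Nat.Coprime.coprime_dvd_left (Subgroup.card_map_dvd _ f) (Lib.Cores.pPrimeCore_coprime 2)
    rw [hM, le_bot_iff, Subgroup.map_eq_bot_iff] at h2
    exact h2
  have e1 : X ⧸ f.ker ≃* M := QuotientGroup.quotientKerEquivOfSurjective f hf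
  have hn := Lib.Cores.pPrimeCore_normal (G := X) 2
  exact ⟨(QuotientGroup.quotientMulEquivOfEq h1.symm).trans e1⟩

theorem pPrimeCore_permFour : Cfsg.pPrimeCore 2 (Equiv.Perm (Fin 4)) = ⊥ := by
  have hn := Lib.Cores.pPrimeCore_normal (G := Equiv.Perm (Fin 4)) 2
  have hc := Lib.Cores.pPrimeCore_coprime (G := Equiv.Perm (Fin 4)) 2
  rw [eq_bot_iff]
  intro x hx
  by_contra hx1
  obtain ⟨y, z, h⟩ := Lib.VonDyck.normal_s4 x hx1
  have h1 : (Lib.VonDyck.s4 * Lib.VonDyck.t4) ^ 2 ∈ Cfsg.pPrimeCore 2 (Equiv.Perm (Fin 4)) := by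
    rw [← h]
    exact mul_mem (hn.conj_mem x hx y) (hn.conj_mem x hx z)
  have h2 : orderOf ((Lib.VonDyck.s4 * Lib.VonDyck.t4) ^ 2) = 2 := by
    refine orderOf_eq_prime ?_ Lib.VonDyck.st4_ne
    rw [← pow_mul]
    exact Lib.VonDyck.st4_pow
  have h3 : orderOf ((Lib.VonDyck.s4 * Lib.VonDyck.t4) ^ 2) ∣ Nat.card (Cfsg.pPrimeCore 2 (Equiv.Perm (Fin 4))) := by
    have := orderOf_dvd_natCard (⟨_, h1⟩ : Cfsg.pPrimeCore 2 (Equiv.Perm (Fin 4)))
    rwa [Subgroup.orderOf_mk] at this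
  rw [h2] at h3
  have h4 := Nat.dvd_gcd h3 (dvd_refl 2)
  rw [hc] at h4
  exact absurd (Nat.dvd_one.1 h4) (by norm_num)

theorem pPrimeCore_C2 : Cfsg.pPrimeCore 2 (Multiplicative (ZMod 2)) = ⊥ := by
  have hc := Lib.Cores.pPrimeCore_coprime (G := Multiplicative (ZMod 2)) 2
  have h1 := Subgroup.card_subgroup_dvd_card (Cfsg.pPrimeCore 2 (Multiplicative (ZMod 2)))
  have h2 : Nat.card (Multiplicative (ZMod 2)) = 2 := by
    rw [Nat.card_congr Multiplicative.toAdd, Nat.card_zmod]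
  rw [h2] at h1
  have h3 := Nat.dvd_gcd dvd_rfl h1
  rw [hc] at h3
  exact Subgroup.card_eq_one.1 (Nat.dvd_one.1 h3)

theorem pPrimeCore_prod {M1 M2 : Type*} [Group M1] [Group M2] [Finite M1] [Finite M2] (h1 : Cfsg.pPrimeCore 2 M1 = ⊥)
    (h2 : Cfsg.pPrimeCore 2 M2 = ⊥) : Cfsg.pPrimeCore 2 (M1 × M2) = ⊥ := by
  have hn := Lib.Cores.pPrimeCore_normal (G := M1 × M2) 2
  have hc := Lib.Cores.pPrimeCore_coprime (G := M1 × M2) 2
  have a1 : (Cfsg.pPrimeCore 2 (M1 × M2)).map (MonoidHom.fst M1 M2) ≤ Cfsg.pPrimeCore 2 M1 := by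
    refine Lib.Cores.le_pPrimeCore (hn.map _ Prod.fst_surjective) ?_
    exact Nat.Coprime.coprime_dvd_left (Subgroup.card_map_dvd _ _) hc
  have a2 : (Cfsg.pPrimeCore 2 (M1 × M2)).map (MonoidHom.snd M1 M2) ≤ Cfsg.pPrimeCore 2 M2 := by
    refine Lib.Cores.le_pPrimeCore (hn.map _ Prod.snd_surjective) ?_
    exact Nat.Coprime.coprime_dvd_left (Subgroup.card_map_dvd _ _) hc
  rw [h1] at a1
  rw [h2] at a2
  rw [eq_bot_iff]
  intro y hy
  have b1 : y.1 = 1 := Subgroup.mem_bot.1 (a1 ⟨y, hy, rfl⟩)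
  have b2 : y.2 = 1 := Subgroup.mem_bot.1 (a2 ⟨y, hy, rfl⟩)
  rw [Subgroup.mem_bot]
  exact Prod.ext b1 b2

/-- Internal direct products. -/
theorem prod_equiv {A B : Subgroup X} (hcomm : ∀ a ∈ A, ∀ b ∈ B, a * b = b * a) (hd : A ⊓ B = ⊥) (hs : A ⊔ B = ⊤)
    {M1 M2 : Type*} [Group M1] [Group M2] (e1 : A ≃* M1) (e2 : B ≃* M2) : Nonempty (X ≃* M1 × M2) := by
  have hc : ∀ (m : A) (n : B), Commute (A.subtype m) (B.subtype n) := fun m n => hcomm m m.2 n n.2
  let f : A × B →* X := MonoidHom.noncommCoprod A.subtype B.subtype hc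
  have hf1 : Function.Injective f := by
    rw [MonoidHom.noncommCoprod_injective]
    refine ⟨A.subtype_injective, B.subtype_injective, ?_⟩
    rw [range_subtype, range_subtype, disjoint_iff, hd]
  have hf2 : Function.Surjective f := by
    rw [← MonoidHom.range_eq_top, MonoidHom.noncommCoprod_range, range_subtype, range_subtype, hs]
  exact ⟨(MulEquiv.ofBijective f ⟨hf1, hf2⟩).symm.trans (MulEquiv.prodCongr e1 e2)⟩

theorem zpowers_equiv [Finite X] {w : X} (hw : w * w = 1) (hw1 : w ≠ 1) :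
    Nonempty (zpowers w ≃* Multiplicative (ZMod 2)) := by
  have h1 : Nat.card (zpowers w) = 2 := by
    rw [Nat.card_zpowers]
    exact orderOf_eq_prime (by rw [pow_two, hw]) hw1
  have h2 : Nat.card (Multiplicative (ZMod 2)) = 2 := by
    rw [Nat.card_congr Multiplicative.toAdd, Nat.card_zmod]
  have : Fact (Nat.Prime 2) := ⟨Nat.prime_two⟩
  exact ⟨mulEquivOfPrimeCardEq h1 h2⟩

theorem mem_zpowers_invol {x s : X} (hx : x * x = 1) (h : s ∈ zpowers x) : s = 1 ∨ s = x := by
  rw [mem_zpowers_iff] at h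
  obtain ⟨k, hk⟩ := h
  rcases Int.even_or_odd' k with ⟨l, rfl | rfl⟩
  · rw [zpow_mul, zpow_two, hx, one_zpow] at hk
    exact Or.inl hk.symm
  · rw [zpow_add, zpow_mul, zpow_two, hx, one_zpow, one_mul, zpow_one] at hk
    exact Or.inr hk.symm

theorem normal_zpowers_of_gen {S : Set X} (hS : closure S = ⊤) {t : X}
    (h : ∀ y ∈ S, y * t * y⁻¹ = t ∨ y * t * y⁻¹ = t⁻¹) : (zpowers t).Normal := by
  have h1 : ∀ y : X, y * t * y⁻¹ = t ∨ y * t * y⁻¹ = t⁻¹ := by
    intro y
    have hy : y ∈ closure S := by rw [hS]; trivial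
    induction hy using closure_induction with
    | mem y hy => exact h y hy
    | one => left; group
    | mul a b _ _ ha hb =>
      have e : a * b * t * (a * b)⁻¹ = a * (b * t * b⁻¹) * a⁻¹ := by group
      rw [e]
      rcases hb with hb | hb
      · rw [hb]; exact ha
      · rw [hb]
        have e2 : a * t⁻¹ * a⁻¹ = (a * t * a⁻¹)⁻¹ := by group
        rw [e2]
        rcases ha with ha | ha
        · rw [ha]; exact Or.inr rfl
        · rw [ha, inv_inv]; exact Or.inl rfl
    | inv a _ ha =>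
      rcases ha with ha | ha
      · left
        have : t = a⁻¹ * (a * t * a⁻¹) * a := by group
        rw [ha] at this
        rw [inv_inv]
        exact this.symm
      · right
        have : t = a⁻¹ * (a * t * a⁻¹) * a := by group
        rw [ha] at this
        have h3 : t⁻¹ = (a⁻¹ * t⁻¹ * a)⁻¹ := by rw [← this]
        rw [inv_inv, h3]
        group
  refine ⟨fun n hn y => ?_⟩
  obtain ⟨j, rfl⟩ := mem_zpowers_iff.1 hn
  have e : y * t ^ j * y⁻¹ = (y * t * y⁻¹) ^ j := by rw [conj_zpow]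
  rw [e]
  rcases h1 y with h2 | h2
  · rw [h2]; exact zpow_mem (mem_zpowers t) j
  · rw [h2]; exact zpow_mem (inv_mem (mem_zpowers t)) j

theorem notMem_zpowers_of_odd [Finite X] {t v : X} {k : ℕ} (hk : Odd k) (ht : t ^ k = 1) (hv : v * v = 1) (hv1 : v ≠ 1) :
    v ∉ zpowers t := by
  intro h
  have h1 : orderOf v ∣ Nat.card (zpowers t) := by
    have := orderOf_dvd_natCard (⟨v, h⟩ : zpowers t)
    rwa [Subgroup.orderOf_mk] at this
  have h2 : orderOf v = 2 := orderOf_eq_prime (by rw [pow_two, hv]) hv1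
  rw [Nat.card_zpowers, h2] at h1
  have h3 := h1.trans (orderOf_dvd_of_pow_eq_one ht)
  exact (Nat.not_even_iff_odd.2 hk) (even_iff_two_dvd.2 h3)

theorem card_zpowers_coprime [Finite X] {t : X} {k : ℕ} (hk : Odd k) (ht : t ^ k = 1) :
    (Nat.card (zpowers t)).Coprime 2 := by
  rw [Nat.card_zpowers]
  exact Nat.Coprime.coprime_dvd_left (orderOf_dvd_of_pow_eq_one ht) (Nat.coprime_two_right.2 hk)

/-- **`N = 2`**. -/
theorem core_two [Finite X] {x z q : X} (hx : x * x = 1) (hz : z * z = 1) (hq : q * q = 1) (hqc : ∀ y, y * q = q * y)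
    (hgen : closure {x, z, q} = ⊤) (hx1 : x ≠ 1) (hq1 : q ≠ 1) (hxq : x ≠ q) {k : ℕ} (hk : Odd k)
    (hrk : (x * z) ^ k ∈ zpowers q) :
    Nonempty (X ⧸ Cfsg.oddCore X ≃* Multiplicative (ZMod 2) × Multiplicative (ZMod 2)) := by
  have hxi : x⁻¹ = x := inv_eq_of_mul_eq_one_left hx
  have hzi : z⁻¹ = z := inv_eq_of_mul_eq_one_left hz
  have hqi : q⁻¹ = q := inv_eq_of_mul_eq_one_left hq
  set r := x * z with hr
  have hrk2 : r ^ k * r ^ k = 1 := by
    rcases mem_zpowers_invol hq hrk with h | h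
    · rw [h, one_mul]
    · rw [h, hq]
  set ρ := r ^ (k + 1) with hρ
  have hρk : ρ ^ k = 1 := by
    obtain ⟨j, hj⟩ := hk
    have : k + 1 = 2 * (j + 1) := by omega
    rw [hρ, ← pow_mul, mul_comm (k + 1) k, pow_mul, this, pow_mul, pow_two, hrk2, one_pow]
  have hxr : x * r * x⁻¹ = r⁻¹ := by rw [hr, mul_inv_rev, hxi, hzi, ← mul_assoc, hx, one_mul]
  have hzr : z * r * z⁻¹ = r⁻¹ := by
    calc z * (x * z) * z⁻¹ = z * x := by group
      _ = z⁻¹ * x⁻¹ := by rw [hxi, hzi]
      _ = (x * z)⁻¹ := by group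
  have hn : (zpowers ρ).Normal := by
    refine normal_zpowers_of_gen hgen ?_
    rintro y (rfl | rfl | rfl)
    · right; rw [hρ, ← conj_pow, hxr, inv_pow]
    · right; rw [hρ, ← conj_pow, hzr, inv_pow]
    · left; rw [← hqc, mul_inv_cancel_right]
  set π := QuotientGroup.mk' (zpowers ρ) with hπ
  have hπ1 : ∀ y, π y = 1 ↔ y ∈ zpowers ρ := fun y => QuotientGroup.eq_one_iff y
  have hπs : Function.Surjective π := QuotientGroup.mk'_surjective _
  have hπρ : π ρ = 1 := (hπ1 ρ).2 (mem_zpowers ρ)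
  have e1 : π x ≠ 1 := fun h => notMem_zpowers_of_odd hk hρk hx hx1 ((hπ1 x).1 h)
  have e2 : π q ≠ 1 := fun h => notMem_zpowers_of_odd hk hρk hq hq1 ((hπ1 q).1 h)
  have e3 : π x ≠ π q := by
    intro h
    have h1 : π (x * q) = 1 := by rw [map_mul, h, ← map_mul, hq, map_one]
    have h2 : x * q * (x * q) = 1 := by
      rw [mul_assoc, ← mul_assoc q x q, ← hqc x, mul_assoc x q q, hq, mul_one, hx]
    have h3 : x * q ≠ 1 := by
      intro h4
      apply hxq
      rw [mul_eq_one_iff_eq_inv, hqi] at h4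
      exact h4
    exact notMem_zpowers_of_odd hk hρk h2 h3 ((hπ1 _).1 h1)
  have a1 : π x * π x = 1 := by rw [← map_mul, hx, map_one]
  have a2 : π q * π q = 1 := by rw [← map_mul, hq, map_one]
  have hprod : Nonempty ((X ⧸ zpowers ρ) ≃* Multiplicative (ZMod 2) × Multiplicative (ZMod 2)) := by
    obtain ⟨f1⟩ := zpowers_equiv a1 e1
    obtain ⟨f2⟩ := zpowers_equiv a2 e2
    refine prod_equiv (A := zpowers (π x)) (B := zpowers (π q)) ?_ ?_ ?_ f1 f2
    · intro a ha b hb
      have h1 : π x * π q = π q * π x := by rw [← map_mul, hqc, map_mul]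
      rcases mem_zpowers_invol a1 ha with rfl | rfl
      · rw [one_mul, mul_one]
      · rcases mem_zpowers_invol a2 hb with rfl | rfl
        · rw [one_mul, mul_one]
        · exact h1
    · rw [eq_bot_iff]
      rintro y ⟨h1, h2⟩
      rw [mem_bot]
      rcases mem_zpowers_invol a1 h1 with rfl | rfl
      · rfl
      · rcases mem_zpowers_invol a2 h2 with h | h
        · exact h
        · exact absurd h e3
    · have h1 : (closure {x, z, q}).map π = ⊤ := by
        rw [hgen, ← MonoidHom.range_eq_map, MonoidHom.range_eq_top.2 hπs]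
      rw [eq_top_iff, ← h1, MonoidHom.map_closure, closure_le]
      have hX : π x ∈ zpowers (π x) ⊔ zpowers (π q) := mem_sup_left (mem_zpowers _)
      have hQ : π q ∈ zpowers (π x) ⊔ zpowers (π q) := mem_sup_right (mem_zpowers _)
      have hRk : π (r ^ k) ∈ zpowers (π x) ⊔ zpowers (π q) := by
        rcases mem_zpowers_invol hq hrk with h | h
        · rw [h, map_one]; exact one_mem _
        · rw [h]; exact hQ
      rintro _ ⟨y, (rfl | rfl | rfl), rfl⟩
      · exact hX
      · have h2 : y = x⁻¹ * (ρ * (r ^ k)⁻¹) := by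
          have : ρ * (r ^ k)⁻¹ = r := by rw [hρ, pow_succ']; group
          rw [this, hr, inv_mul_cancel_left]
        rw [h2, map_mul, map_mul, hπρ, one_mul, map_inv, map_inv]
        exact mul_mem (inv_mem hX) (inv_mem hRk)
      · exact hQ
  obtain ⟨e⟩ := hprod
  refine quot_equiv (e.toMonoidHom.comp π) (e.surjective.comp hπs) ?_ (pPrimeCore_prod pPrimeCore_C2 pPrimeCore_C2)
  have h1 : (e.toMonoidHom.comp π).ker = zpowers ρ := by
    ext y
    rw [MonoidHom.mem_ker, ← hπ1]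
    show e (π y) = 1 ↔ _
    exact map_eq_one_iff e e.injective
  rw [h1]
  exact card_zpowers_coprime hk hρk

/-- **`N = 3, 4`**. -/
theorem core_four [Finite X] {x z u v w : X} (hx : x * x = 1) (hz : z * z = 1) (hu : u * u = 1) (hv : v * v = 1)
    (hw : w * w = 1) (huv : u * v = v * u) (hxu : x * u = u * x) (hxv : x * v * x⁻¹ = u * v) (hzv : z * v = v * z)
    (hzu : z * u * z⁻¹ = u * v) (hwc : ∀ y, y * w = w * y) (hgen : closure {x, z, u, v, w} = ⊤) (hv1 : v ≠ 1)
    {k : ℕ} (hk : Odd k) (hrk : (x * z) ^ k ∈ closure {u, v, w}) :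
    (w = 1 ∧ Nonempty (X ⧸ Cfsg.oddCore X ≃* Equiv.Perm (Fin 4))) ∨
    (w ≠ 1 ∧ Nonempty (X ⧸ Cfsg.oddCore X ≃* Equiv.Perm (Fin 4) × Multiplicative (ZMod 2))) := by
  have hxi : x⁻¹ = x := inv_eq_of_mul_eq_one_left hx
  have hzi : z⁻¹ = z := inv_eq_of_mul_eq_one_left hz
  have hui : u⁻¹ = u := inv_eq_of_mul_eq_one_left hu
  have hvi : v⁻¹ = v := inv_eq_of_mul_eq_one_left hv
  have hwi : w⁻¹ = w := inv_eq_of_mul_eq_one_left hw
  set r := x * z with hr
  -- the elementary abelian subgroup `Q`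
  have hQu : ∀ q ∈ closure {u, v, w}, q * u = u * q := by
    have : closure {u, v, w} ≤ Subgroup.centralizer ({u} : Set X) := by
      rw [closure_le]
      rintro _ (rfl | rfl | rfl)
      · exact mem_centralizer_singleton_iff.2 rfl
      · exact mem_centralizer_singleton_iff.2 huv.symm
      · exact mem_centralizer_singleton_iff.2 (hwc u).symm
    exact fun q hq => mem_centralizer_singleton_iff.1 (this hq)
  have hQv : ∀ q ∈ closure {u, v, w}, q * v = v * q := by
    have : closure {u, v, w} ≤ Subgroup.centralizer ({v} : Set X) := by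
      rw [closure_le]
      rintro _ (rfl | rfl | rfl)
      · exact mem_centralizer_singleton_iff.2 huv
      · exact mem_centralizer_singleton_iff.2 rfl
      · exact mem_centralizer_singleton_iff.2 (hwc v).symm
    exact fun q hq => mem_centralizer_singleton_iff.1 (this hq)
  have hQc : ∀ q ∈ closure {u, v, w}, ∀ q' ∈ closure {u, v, w}, q' * q = q * q' := by
    intro q hq
    have : closure {u, v, w} ≤ Subgroup.centralizer ({q} : Set X) := by
      rw [closure_le]
      rintro _ (rfl | rfl | rfl)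
      · exact mem_centralizer_singleton_iff.2 (hQu q hq).symm
      · exact mem_centralizer_singleton_iff.2 (hQv q hq).symm
      · exact mem_centralizer_singleton_iff.2 (hwc q).symm
    exact fun q' hq' => mem_centralizer_singleton_iff.1 (this hq')
  have hQ2 : ∀ q ∈ closure {u, v, w}, q * q = 1 := by
    intro q hq
    induction hq using closure_induction with
    | mem y hy =>
      rcases hy with rfl | rfl | rfl
      · exact hu
      · exact hv
      · exact hw
    | one => exact one_mul 1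
    | mul a b ha hb iha ihb =>
      calc a * b * (a * b) = a * (b * a) * b := by group
        _ = a * (a * b) * b := by rw [hQc a ha b hb]
        _ = (a * a) * (b * b) := by group
        _ = 1 := by rw [iha, ihb, one_mul]
    | inv a _ iha =>
      rw [← mul_inv_rev, iha, inv_one]
  have hrk2 : r ^ k * r ^ k = 1 := hQ2 _ hrk
  set ρ := r ^ (k + 1) with hρ
  have hρk : ρ ^ k = 1 := by
    obtain ⟨j, hj⟩ := hk
    have : k + 1 = 2 * (j + 1) := by omega
    rw [hρ, ← pow_mul, mul_comm (k + 1) k, pow_mul, this, pow_mul, pow_two, hrk2, one_pow]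
  have hxr : x * r * x⁻¹ = r⁻¹ := by rw [hr, mul_inv_rev, hxi, hzi, ← mul_assoc, hx, one_mul]
  have hzr : z * r * z⁻¹ = r⁻¹ := by
    calc z * (x * z) * z⁻¹ = z * x := by group
      _ = z⁻¹ * x⁻¹ := by rw [hxi, hzi]
      _ = (x * z)⁻¹ := by group
  have hxρ : x * ρ * x⁻¹ = ρ⁻¹ := by rw [hρ, ← conj_pow, hxr, inv_pow]
  have hzρ : z * ρ * z⁻¹ = ρ⁻¹ := by rw [hρ, ← conj_pow, hzr, inv_pow]
  have hρu : ρ * u * ρ⁻¹ = v := by
    have h1 : ρ = r * r ^ k := by rw [hρ, pow_succ']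
    have h2 := hQu _ hrk
    calc ρ * u * ρ⁻¹ = r * (r ^ k * u) * (r ^ k)⁻¹ * r⁻¹ := by rw [h1]; group
      _ = x * (z * u * z⁻¹) * x⁻¹ := by rw [h2, hr]; group
      _ = (x * u) * x⁻¹ * (x * v * x⁻¹) := by rw [hzu]; group
      _ = v := by rw [hxu, hxv, mul_inv_cancel_right, ← mul_assoc, hu, one_mul]
  have hρv : ρ * v * ρ⁻¹ = u * v := by
    have h1 : ρ = r * r ^ k := by rw [hρ, pow_succ']
    have h2 := hQv _ hrk
    calc ρ * v * ρ⁻¹ = r * (r ^ k * v) * (r ^ k)⁻¹ * r⁻¹ := by rw [h1]; group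
      _ = x * (z * v * z⁻¹) * x⁻¹ := by rw [h2, hr]; group
      _ = u * v := by rw [hzv, mul_inv_cancel_right, hxv]
  have hρuv : ρ * (u * v) * ρ⁻¹ = u := by
    calc ρ * (u * v) * ρ⁻¹ = (ρ * u * ρ⁻¹) * (ρ * v * ρ⁻¹) := by group
      _ = u := by rw [hρu, hρv, huv, ← mul_assoc, hv, one_mul]
  have h3u : ρ ^ 3 * u * (ρ ^ 3)⁻¹ = u := by
    calc ρ ^ 3 * u * (ρ ^ 3)⁻¹ = ρ * (ρ * (ρ * u * ρ⁻¹) * ρ⁻¹) * ρ⁻¹ := by rw [pow_three]; group
      _ = u := by rw [hρu, hρv, hρuv]
  have h3v : ρ ^ 3 * v * (ρ ^ 3)⁻¹ = v := by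
    calc ρ ^ 3 * v * (ρ ^ 3)⁻¹ = ρ * (ρ * (ρ * v * ρ⁻¹) * ρ⁻¹) * ρ⁻¹ := by rw [pow_three]; group
      _ = v := by rw [hρv, hρuv, hρu]
  have hcomm3 : ∀ y, ρ ^ 3 * y * (ρ ^ 3)⁻¹ = y → y * ρ ^ 3 * y⁻¹ = ρ ^ 3 := by
    intro y hy
    rw [mul_inv_eq_iff_eq_mul] at hy
    rw [← hy, mul_inv_cancel_right]
  have hn : (zpowers (ρ ^ 3)).Normal := by
    refine normal_zpowers_of_gen hgen ?_
    rintro y (rfl | rfl | rfl | rfl | rfl)
    · right; rw [← conj_pow, hxρ, inv_pow]
    · right; rw [← conj_pow, hzρ, inv_pow]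
    · left; exact hcomm3 _ h3u
    · left; exact hcomm3 _ h3v
    · left; rw [← hwc, mul_inv_cancel_right]
  have hρ3k : (ρ ^ 3) ^ k = 1 := by rw [← pow_mul, mul_comm, pow_mul, hρk, one_pow]
  set π := QuotientGroup.mk' (zpowers (ρ ^ 3)) with hπ
  have hπ1 : ∀ y, π y = 1 ↔ y ∈ zpowers (ρ ^ 3) := fun y => QuotientGroup.eq_one_iff y
  have hπs : Function.Surjective π := QuotientGroup.mk'_surjective _
  have hπρ : π ρ ^ 3 = 1 := by rw [← map_pow]; exact (hπ1 _).2 (mem_zpowers _)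
  have e1 : π v ≠ 1 := fun h => notMem_zpowers_of_odd hk hρ3k hv hv1 ((hπ1 v).1 h)
  have hsq : (u * x * ρ) ^ 2 = v := by
    have h1 : ρ * x * ρ = x := by
      have : ρ * x = x * ρ⁻¹ := by
        have h2 : x * ρ = ρ⁻¹ * x := by rwa [mul_inv_eq_iff_eq_mul] at hxρ
        calc ρ * x = ρ * x * ρ * ρ⁻¹ := by group
          _ = ρ * (ρ⁻¹ * x) * ρ⁻¹ := by rw [mul_assoc ρ x ρ, h2]
          _ = x * ρ⁻¹ := by group
      rw [this]; group
    have h2 : ρ * u = v * ρ := by rwa [mul_inv_eq_iff_eq_mul] at hρu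
    calc (u * x * ρ) ^ 2 = u * x * (ρ * u) * x * ρ := by rw [pow_two]; group
      _ = u * x * v * (ρ * x * ρ) := by rw [h2]; group
      _ = u * (x * v * x⁻¹) * (x * x) := by rw [h1]; group
      _ = v := by rw [hxv, hx, mul_one, ← mul_assoc, hu, one_mul]
  have ha : π (u * x) ^ 2 = 1 := by
    rw [← map_pow, pow_two]
    have : u * x * (u * x) = 1 := by
      calc u * x * (u * x) = u * (x * u) * x := by group
        _ = u * (u * x) * x := by rw [hxu]
        _ = (u * u) * (x * x) := by group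
        _ = 1 := by rw [hu, hx, one_mul]
    rw [this, map_one]
  have hab2 : (π (u * x) * π ρ) ^ 2 = π v := by rw [← map_mul, ← map_pow, hsq]
  have hab4 : (π (u * x) * π ρ) ^ 4 = 1 := by
    have : (4 : ℕ) = 2 * 2 := rfl
    rw [this, pow_mul, hab2, pow_two, ← map_mul, hv, map_one]
  obtain ⟨eM⟩ := Lib.VonDyck.closure_equiv_permFour ha hπρ hab4 (by rw [hab2]; exact e1)
  set M := closure {π (u * x), π ρ} with hM
  have m1 : π (u * x) ∈ M := subset_closure (by simp)
  have m2 : π ρ ∈ M := subset_closure (by simp)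
  have m3 : π v ∈ M := by rw [← hab2]; exact pow_mem (mul_mem m1 m2) 2
  have m4 : π u ∈ M := by
    have h1 : π (ρ * v * ρ⁻¹ * v⁻¹) ∈ M := by
      rw [map_mul, map_mul, map_mul, map_inv, map_inv]
      exact mul_mem (mul_mem (mul_mem m2 m3) (inv_mem m2)) (inv_mem m3)
    rwa [hρv, mul_inv_cancel_right] at h1
  have m5 : π x ∈ M := by
    have h1 : π x = (π u)⁻¹ * π (u * x) := by rw [map_mul, inv_mul_cancel_left]
    rw [h1]
    exact mul_mem (inv_mem m4) m1
  have hsup : M ⊔ zpowers (π w) = ⊤ := by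
    have h1 : (closure {x, z, u, v, w}).map π = ⊤ := by
      rw [hgen, ← MonoidHom.range_eq_map, MonoidHom.range_eq_top.2 hπs]
    have n1 : M ≤ M ⊔ zpowers (π w) := le_sup_left
    have n2 : π w ∈ M ⊔ zpowers (π w) := mem_sup_right (mem_zpowers _)
    have n3 : π (r ^ k) ∈ M ⊔ zpowers (π w) := by
      have h2 : (closure {u, v, w}).map π ≤ M ⊔ zpowers (π w) := by
        rw [MonoidHom.map_closure, closure_le]
        rintro _ ⟨y, (rfl | rfl | rfl), rfl⟩
        · exact n1 m4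
        · exact n1 m3
        · exact n2
      exact h2 ⟨_, hrk, rfl⟩
    rw [eq_top_iff, ← h1, MonoidHom.map_closure, closure_le]
    rintro _ ⟨y, (rfl | rfl | rfl | rfl | rfl), rfl⟩
    · exact n1 m5
    · have h2 : y = x⁻¹ * (ρ * (r ^ k)⁻¹) := by
        have : ρ * (r ^ k)⁻¹ = r := by rw [hρ, pow_succ']; group
        rw [this, hr, inv_mul_cancel_left]
      rw [h2, map_mul, map_mul, map_inv, map_inv]
      exact mul_mem (inv_mem (n1 m5)) (mul_mem (n1 m2) (inv_mem n3))
    · exact n1 m4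
    · exact n1 m3
    · exact n2
  have hkerodd : (Nat.card (zpowers (ρ ^ 3))).Coprime 2 := card_zpowers_coprime hk hρ3k
  by_cases hw1 : w = 1
  · left
    refine ⟨hw1, ?_⟩
    rw [hw1, map_one, zpowers_one_eq_bot, sup_bot_eq] at hsup
    let e : (X ⧸ zpowers (ρ ^ 3)) ≃* Equiv.Perm (Fin 4) := (Subgroup.topEquiv.symm.trans (MulEquiv.subgroupCongr hsup.symm)).trans eM
    refine quot_equiv (e.toMonoidHom.comp π) (e.surjective.comp hπs) ?_ pPrimeCore_permFour
    have h1 : (e.toMonoidHom.comp π).ker = zpowers (ρ ^ 3) := by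
      ext y
      rw [MonoidHom.mem_ker, ← hπ1]
      show e (π y) = 1 ↔ _
      exact map_eq_one_iff e e.injective
    rw [h1]
    exact hkerodd
  · right
    refine ⟨hw1, ?_⟩
    have e2 : π w ≠ 1 := fun h => notMem_zpowers_of_odd hk hρ3k hw hw1 ((hπ1 w).1 h)
    have a2 : π w * π w = 1 := by rw [← map_mul, hw, map_one]
    have hwc' : ∀ y, y * π w = π w * y := by
      intro y
      obtain ⟨y, rfl⟩ := hπs y
      rw [← map_mul, hwc, map_mul]
    have hwM : π w ∉ M := by
      intro h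
      have hc : eM ⟨π w, h⟩ ∈ Subgroup.center (Equiv.Perm (Fin 4)) := by
        rw [mem_center_iff]
        intro σ
        obtain ⟨m, rfl⟩ := eM.surjective σ
        rw [← map_mul, ← map_mul]
        congr 1
        exact Subtype.ext (hwc' m)
      have hbot : Subgroup.center (Equiv.Perm (Fin 4)) = ⊥ := by
        rw [eq_bot_iff]
        intro σ hσ
        rw [mem_center_iff] at hσ
        rw [mem_bot]
        revert σ
        decide
      rw [hbot, mem_bot] at hc
      have h1 := (map_eq_one_iff eM eM.injective).1 hc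
      exact e2 (congrArg Subtype.val h1)
    obtain ⟨f2⟩ := zpowers_equiv a2 e2
    have hprod : Nonempty ((X ⧸ zpowers (ρ ^ 3)) ≃* Equiv.Perm (Fin 4) × Multiplicative (ZMod 2)) := by
      refine prod_equiv (A := M) (B := zpowers (π w)) ?_ ?_ hsup eM f2
      · intro a _ b hb
        rcases mem_zpowers_invol a2 hb with rfl | rfl
        · rw [one_mul, mul_one]
        · exact hwc' a
      · rw [eq_bot_iff]
        rintro y ⟨h1, h2⟩
        rw [mem_bot]
        rcases mem_zpowers_invol a2 h2 with rfl | rfl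
        · rfl
        · exact absurd h1 hwM
    obtain ⟨e⟩ := hprod
    refine quot_equiv (e.toMonoidHom.comp π) (e.surjective.comp hπs) ?_ (pPrimeCore_prod pPrimeCore_permFour pPrimeCore_C2)
    have h1 : (e.toMonoidHom.comp π).ker = zpowers (ρ ^ 3) := by
      ext y
      rw [MonoidHom.mem_ker, ← hπ1]
      show e (π y) = 1 ↔ _
      exact map_eq_one_iff e e.injective
    rw [h1]
    exact hkerodd

end Cfsg.Agent.H581.Sims
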