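import Cfsg.Agent.H581.SimsC
import Cfsg.Agent.H581.SimsD

/-!
# Sims' theorem (Tutte's theorem with dihedral local action)

`final`: `G` finite, `P ≤ G`, `g ∈ G` with `|P : P ∩ gPg⁻¹| = 2`, `H = ⟨P, gPg⁻¹⟩`, `|H : P|` odd, and no non-identity
subgroup of `P` is normal in both `H` and `gHg⁻¹`. Then `P` has order 2, 4, 8 or 16, and in the last three cases
`H / O(H)` is `C₂ × C₂`, `S₄`, `S₄ × C₂` respectively.
-/

set_option autoImplicit false

open Pointwise

namespace Cfsg.Agent.H581.Sims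

variable {G : Type*} [Group G]

theorem mem_closure_of {H : Subgroup G} {A : Set H} {y : H} (h : (y : G) ∈ Subgroup.closure (H.subtype '' A)) :
    y ∈ Subgroup.closure A := by
  rw [← MonoidHom.map_closure] at h
  obtain ⟨y', hy', h⟩ := h
  have : y' = y := Subtype.ext h
  rwa [this] at hy'

theorem gen_top {H : Subgroup G} {A : Set H} (h : H ≤ Subgroup.closure (H.subtype '' A)) :
    Subgroup.closure A = ⊤ := by
  rw [eq_top_iff]
  intro y _
  exact mem_closure_of (h y.2)

theorem eq_of_swap {r y y' : G} (h1 : r * y * r⁻¹ = y') (h2 : r * y' * r⁻¹ = y) {k : ℕ} (hk : Odd k)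
    (hc : Commute (r ^ k) y) : y = y' := by
  obtain ⟨j, rfl⟩ := hk
  have h3 : Commute (r ^ 2) y := by
    show r ^ 2 * y = y * r ^ 2
    rw [← mul_inv_eq_iff_eq_mul]
    calc r ^ 2 * y * (r ^ 2)⁻¹ = r * (r * y * r⁻¹) * r⁻¹ := by rw [pow_two]; group
      _ = y := by rw [h1, h2]
  have h4 : Commute (r ^ (2 * j)) y := by rw [pow_mul]; exact h3.pow_left j
  have h5 : r ^ (2 * j + 1) * y * (r ^ (2 * j + 1))⁻¹ = y := by rw [hc.eq, mul_inv_cancel_right]
  have h6 : r ^ (2 * j + 1) * y * (r ^ (2 * j + 1))⁻¹ = y' := by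
    rw [pow_succ']
    calc r * r ^ (2 * j) * y * (r * r ^ (2 * j))⁻¹ = r * (r ^ (2 * j) * y) * (r ^ (2 * j))⁻¹ * r⁻¹ := by group
      _ = r * y * r⁻¹ := by rw [h4.eq]; group
      _ = y' := h1
  rw [← h5, h6]

namespace Data

variable {g a : G} {N : ℕ} {T : ℕ → Subgroup G}

/-- The rotation of the dihedral quotient has odd order. -/
theorem exists_odd [Finite G] (hD : Data g a (N + 1) T) (H : Subgroup G) (hH : H = S g T 0 (N + 1) ⊔ S g T 1 (N + 1))
    (hodd : ¬ 2 ∣ (S g T 0 (N + 1)).relIndex H) :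
    ∃ k, Odd k ∧ (el g a 0 * el g a (N + 1)) ^ k ∈ S g T 1 N := by
  have h0H : S g T 0 (N + 1) ≤ H := by rw [hH]; exact le_sup_left
  have h1H : S g T 1 (N + 1) ≤ H := by rw [hH]; exact le_sup_right
  have hQ0 : S g T 1 N ≤ S g T 0 (N + 1) := by
    have := hD.S_cle 0 (m := N) (by omega)
    rwa [zero_add] at this
  have hQH : S g T 1 N ≤ H := hQ0.trans h0H
  have hn : ((S g T 1 N).subgroupOf H).Normal := by
    rw [Subgroup.normal_subgroupOf_iff_le_normalizer hQH, hH, sup_le_iff]
    constructor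
    · have := hD.le_normalizer_left 0 (m := N) (by omega)
      rwa [zero_add] at this
    · exact hD.le_normalizer_right 1 (m := N) (by omega)
  have x0 : el g a 0 ∈ H := h0H (hD.el_mem le_rfl (by push_cast; omega) le_rfl)
  have z0 : el g a (N + 1) ∈ H := h1H (hD.el_mem (by omega) (by push_cast; omega) le_rfl)
  set Q := (S g T 1 N).subgroupOf H with hQ
  have hcard : Nat.card (H ⧸ Q) = 2 * (S g T 0 (N + 1)).relIndex H := by
    have h1 : Nat.card (H ⧸ Q) = (S g T 1 N).relIndex H := rfl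
    rw [h1, ← Subgroup.relIndex_mul_relIndex _ _ _ hQ0 h0H]
    congr 1
    have := hD.relIndex_left 0 (m := N) (by omega)
    rwa [zero_add] at this
  have h4 : ¬ 4 ∣ Nat.card (H ⧸ Q) := by
    rw [hcard]
    intro h
    apply hodd
    omega
  have hxQ : el g a 0 ∉ S g T 1 N := hD.el_notMem_left (by norm_num) (by push_cast; omega)
  have hzQ : el g a (N + 1) ∉ S g T 1 N := hD.el_notMem_right (by omega) (by push_cast; omega)
  have hk := odd_orderOf h4 (x := (QuotientGroup.mk ⟨el g a 0, x0⟩ : H ⧸ Q)) (z := QuotientGroup.mk ⟨el g a (N + 1), z0⟩)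
    (by
      rw [← QuotientGroup.mk_mul]
      have : (⟨el g a 0, x0⟩ : H) * ⟨el g a 0, x0⟩ = 1 := Subtype.ext (hD.el_sq 0)
      rw [this, QuotientGroup.mk_one])
    (by
      rw [← QuotientGroup.mk_mul]
      have : (⟨el g a (N + 1), z0⟩ : H) * ⟨el g a (N + 1), z0⟩ = 1 := Subtype.ext (hD.el_sq _)
      rw [this, QuotientGroup.mk_one])
    (by rw [Ne, QuotientGroup.eq_one_iff]; exact hxQ)
    (by rw [Ne, QuotientGroup.eq_one_iff]; exact hzQ)
  refine ⟨_, hk, ?_⟩
  have h5 := pow_orderOf_eq_one ((QuotientGroup.mk ⟨el g a 0, x0⟩ : H ⧸ Q) * QuotientGroup.mk ⟨el g a (N + 1), z0⟩)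
  rw [← QuotientGroup.mk_mul, ← QuotientGroup.mk_pow, QuotientGroup.eq_one_iff] at h5
  exact h5

end Data

/-- **Sims' theorem**, for dihedral local action. -/
theorem final [Finite G] (P : Subgroup G) (g : G) (H : Subgroup G) (hH : H = P ⊔ MulAut.conj g • P)
    (h2 : (MulAut.conj g • P).relIndex P = 2)
    (hU : ∀ X : Subgroup G, X ≤ P → H ≤ Subgroup.normalizer (X : Set G) →
      MulAut.conj g • H ≤ Subgroup.normalizer (X : Set G) → X = ⊥)
    (hodd : ¬ 2 ∣ P.relIndex H) :
    Nat.card P = 2 ∨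
    (Nat.card P = 4 ∧ Nonempty (↥H ⧸ Cfsg.oddCore ↥H ≃* Multiplicative (ZMod 2) × Multiplicative (ZMod 2))) ∨
    (Nat.card P = 8 ∧ Nonempty (↥H ⧸ Cfsg.oddCore ↥H ≃* Equiv.Perm (Fin 4))) ∨
    (Nat.card P = 16 ∧ Nonempty (↥H ⧸ Cfsg.oddCore ↥H ≃* Equiv.Perm (Fin 4) × Multiplicative (ZMod 2))) := by
  obtain ⟨N, T, hC, hTN, hpos⟩ := exists_chain P g h2 (by
    intro X hX hPX hgX
    have h1 : MulAut.conj g • P ≤ Subgroup.normalizer (X : Set G) := by
      have := Subgroup.pointwise_smul_le_pointwise_smul_iff (a := MulAut.conj g) |>.2 hPX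
      rwa [smul_normalizer, hgX] at this
    have h3 : H ≤ Subgroup.normalizer (X : Set G) := by
      rw [hH]
      exact sup_le hPX h1
    refine hU X hX h3 ?_
    have := Subgroup.pointwise_smul_le_pointwise_smul_iff (a := MulAut.conj g) |>.2 h3
    rwa [smul_normalizer, hgX] at this)
  obtain ⟨a, hD⟩ := hC.exists_data hpos
  have hS0 : S g T 0 N = P := by rw [S_zero, hTN]
  have hS1 : S g T 1 N = MulAut.conj g • P := by
    rw [← hS0, conj_S_one, zero_add]
  have hS2 : S g T 2 N = MulAut.conj g • MulAut.conj g • P := by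
    rw [← hS1, conj_S_one]
    norm_num
  have hcardP : Nat.card P = 2 ^ N := by rw [← hTN, hC.card N le_rfl]
  have hmain := hD.main (by
    intro X hX h0 h1 h3
    rw [hS0] at hX h0
    rw [hS1] at h1
    rw [hS2] at h3
    refine hU X hX ?_ ?_
    · rw [hH]; exact sup_le h0 h1
    · rw [hH, Subgroup.smul_sup]; exact sup_le h1 h3)
  have hHS : H = S g T 0 N ⊔ S g T 1 N := by rw [hS0, hS1, hH]
  have hodd' : ¬ 2 ∣ (S g T 0 N).relIndex H := by rwa [hS0]
  clear hS2
  -- membership of the involutions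
  have hmem : ∀ i : ℤ, 0 ≤ i → i ≤ N → el g a i ∈ H := by
    intro i h0 h1
    rw [hHS]
    rcases h1.lt_or_eq with h | h
    · exact Subgroup.mem_sup_left (hD.el_mem h0 (by omega) le_rfl)
    · exact Subgroup.mem_sup_right (hD.el_mem (by omega) (by omega) le_rfl)
  have hle : ∀ Y : Subgroup G, (∀ i : ℤ, 0 ≤ i → i ≤ N → el g a i ∈ Y) → H ≤ Y := by
    intro Y hY
    rw [hHS]
    refine sup_le (hD.le_of_gen Y 0 N le_rfl fun i h0 h1 => hY i h0 (by omega))
      (hD.le_of_gen Y 1 N le_rfl fun i h0 h1 => hY i (by omega) (by omega))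
  rcases hmain with rfl | ⟨rfl, h01⟩ | ⟨rfl, h01, hc⟩ | ⟨rfl, h01, h02, hc1, hc⟩
  · left
    rw [hcardP, pow_one]
  · -- N = 2
    right; left
    refine ⟨by rw [hcardP]; norm_num, ?_⟩
    obtain ⟨k, hk, hrk⟩ := hD.exists_odd (N := 1) H hHS hodd'
    have e2 : ((1 : ℕ) : ℤ) + 1 = 2 := by norm_num
    rw [e2] at hrk
    have hm : ∀ d : ℕ, 1 ≤ d → d ≤ 1 → Commute (el g a 0) (el g a d) := by
      intro d h1 h2
      have : d = 1 := by omega
      subst this
      simpa using h01
    have m0 := hmem 0 (by norm_num) (by norm_num)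
    have m1 := hmem 1 (by norm_num) (by norm_num)
    have m2 := hmem 2 (by norm_num) (by norm_num)
    have hcen : ∀ y : H, y * ⟨el g a 1, m1⟩ = ⟨el g a 1, m1⟩ * y := by
      intro y
      have h1 : H ≤ Subgroup.centralizer ({el g a 1} : Set G) := by
        refine hle _ fun i h0 h1 => Subgroup.mem_centralizer_singleton_iff.2 ?_
        exact (comm_of hm (i := i) (j := 1) (by push_cast at *; omega) (by push_cast at *; omega)).eq
      exact Subtype.ext (Subgroup.mem_centralizer_singleton_iff.1 (h1 y.2))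
    refine core_two (x := (⟨el g a 0, m0⟩ : H)) (z := ⟨el g a 2, m2⟩) (q := ⟨el g a 1, m1⟩) (Subtype.ext (hD.el_sq 0))
      (Subtype.ext (hD.el_sq 2)) (Subtype.ext (hD.el_sq 1)) hcen ?_ ?_ ?_ ?_ hk ?_
    · refine gen_top (hle _ fun i h0 h1 => ?_)
      have h3 : i = 0 ∨ i = 1 ∨ i = 2 := by push_cast at h1; omega
      rcases h3 with rfl | rfl | rfl
      · exact Subgroup.subset_closure ⟨⟨el g a 0, m0⟩, by simp, rfl⟩
      · exact Subgroup.subset_closure ⟨⟨el g a 1, m1⟩, by simp, rfl⟩
      · exact Subgroup.subset_closure ⟨⟨el g a 2, m2⟩, by simp, rfl⟩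
    · intro h
      exact hD.el_ne 0 (congrArg Subtype.val h)
    · intro h
      exact hD.el_ne 1 (congrArg Subtype.val h)
    · intro h
      have h1 : el g a 0 = el g a 1 := congrArg Subtype.val h
      have h3 : el g a 0 ∉ S g T 1 1 := hD.el_notMem_left (by norm_num) (by norm_num)
      exact h3 ((hD.mem_one 1 _).2 (Or.inr h1))
    · rcases (hD.mem_one 1 _).1 hrk with h | h
      · have : ((⟨el g a 0, m0⟩ : H) * ⟨el g a 2, m2⟩) ^ k = 1 := Subtype.ext h
        rw [this]
        exact one_mem _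
      · have : ((⟨el g a 0, m0⟩ : H) * ⟨el g a 2, m2⟩) ^ k = ⟨el g a 1, m1⟩ := Subtype.ext h
        rw [this]
        exact Subgroup.mem_zpowers _
  · -- N = 3
    right; right; left
    refine ⟨by rw [hcardP]; norm_num, ?_⟩
    obtain ⟨k, hk, hrk⟩ := hD.exists_odd (N := 2) H hHS hodd'
    have e2 : ((2 : ℕ) : ℤ) + 1 = 3 := by norm_num
    rw [e2] at hrk
    have hm : ∀ d : ℕ, 1 ≤ d → d ≤ 1 → Commute (el g a 0) (el g a d) := by
      intro d h1 h2
      have : d = 1 := by omega
      subst this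
      simpa using h01
    have c12 := (comm_of hm (i := 1) (j := 2) (by norm_num) (by norm_num)).eq
    have c01 := (comm_of hm (i := 0) (j := 1) (by norm_num) (by norm_num)).eq
    have c32 := (comm_of hm (i := 3) (j := 2) (by norm_num) (by norm_num)).eq
    have hc' : cm g a 1 3 = el g a 2 := by
      have h1 := cm_conj (g := g) (a := a) 0 2 1
      rw [hc, el_conj] at h1
      norm_num at h1
      exact h1.symm
    have m0 := hmem 0 (by norm_num) (by norm_num)
    have m1 := hmem 1 (by norm_num) (by norm_num)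
    have m2 := hmem 2 (by norm_num) (by norm_num)
    have m3 := hmem 3 (by norm_num) (by norm_num)
    have r1 : el g a 0 * el g a 2 * (el g a 0)⁻¹ = el g a 1 * el g a 2 := by
      rw [← hc]
      unfold cm
      group
    have r2 : el g a 3 * el g a 1 * (el g a 3)⁻¹ = el g a 1 * el g a 2 := by
      have h1 : el g a 3 * el g a 1 * (el g a 3)⁻¹ = (cm g a 1 3)⁻¹ * el g a 1 := by
        unfold cm
        group
      rw [h1, hc', hD.el_inv, c12]
    have hfour := core_four (x := (⟨el g a 0, m0⟩ : H)) (z := ⟨el g a 3, m3⟩) (u := ⟨el g a 1, m1⟩) (v := ⟨el g a 2, m2⟩)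
      (w := 1) (Subtype.ext (hD.el_sq 0)) (Subtype.ext (hD.el_sq 3)) (Subtype.ext (hD.el_sq 1))
      (Subtype.ext (hD.el_sq 2)) (one_mul 1) (Subtype.ext c12) (Subtype.ext c01) (Subtype.ext r1) (Subtype.ext c32)
      (Subtype.ext r2) (fun y => by rw [mul_one, one_mul]) ?_ (fun h => hD.el_ne 2 (congrArg Subtype.val h)) hk ?_
    · rcases hfour with ⟨_, h⟩ | ⟨h, _⟩
      · exact h
      · exact absurd rfl h
    · refine gen_top (hle _ fun i h0 h1 => ?_)
      have h3 : i = 0 ∨ i = 1 ∨ i = 2 ∨ i = 3 := by push_cast at h1; omega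
      rcases h3 with rfl | rfl | rfl | rfl
      · exact Subgroup.subset_closure ⟨⟨el g a 0, m0⟩, by simp, rfl⟩
      · exact Subgroup.subset_closure ⟨⟨el g a 1, m1⟩, by simp, rfl⟩
      · exact Subgroup.subset_closure ⟨⟨el g a 2, m2⟩, by simp, rfl⟩
      · exact Subgroup.subset_closure ⟨⟨el g a 3, m3⟩, by simp, rfl⟩
    · refine mem_closure_of ?_
      refine (hD.le_of_gen _ 1 2 (by norm_num) fun i h0 h1 => ?_) hrk
      have h3 : i = 1 ∨ i = 2 := by push_cast at h1; omega
      rcases h3 with rfl | rfl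
      · exact Subgroup.subset_closure ⟨⟨el g a 1, m1⟩, by simp, rfl⟩
      · exact Subgroup.subset_closure ⟨⟨el g a 2, m2⟩, by simp, rfl⟩
  · -- N = 4
    right; right; right
    refine ⟨by rw [hcardP]; norm_num, ?_⟩
    obtain ⟨k, hk, hrk⟩ := hD.exists_odd (N := 3) H hHS hodd'
    have e2 : ((3 : ℕ) : ℤ) + 1 = 4 := by norm_num
    rw [e2] at hrk
    have hm : ∀ d : ℕ, 1 ≤ d → d ≤ 2 → Commute (el g a 0) (el g a d) := by
      intro d h1 h2
      have : d = 1 ∨ d = 2 := by omega
      rcases this with rfl | rfl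
      · simpa using h01
      · simpa using h02
    have cc : ∀ i j : ℤ, i - j ≤ 2 → j - i ≤ 2 → el g a i * el g a j = el g a j * el g a i :=
      fun i j h1 h2 => (comm_of hm (by push_cast; omega) (by push_cast; omega)).eq
    have m0 := hmem 0 (by norm_num) (by norm_num)
    have m1 := hmem 1 (by norm_num) (by norm_num)
    have m2 := hmem 2 (by norm_num) (by norm_num)
    have m3 := hmem 3 (by norm_num) (by norm_num)
    have m4 := hmem 4 (by norm_num) (by norm_num)
    have s1 := hD.el_sq 1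
    have s2 := hD.el_sq 2
    have s3 := hD.el_sq 3
    have hcom : ∀ i : ℤ, 1 ≤ i → i ≤ 3 → Commute ((el g a 0 * el g a 4) ^ k) (el g a i) := by
      intro i h1 h3
      exact (hD.centralize (el g a i) 1 3 (by norm_num)
        (fun j hj1 hj2 => comm_of hm (by push_cast at *; omega) (by push_cast at *; omega)) hrk).symm
    have hcs : cm g a 1 4 = g ^ (1 : ℤ) * cm g a 0 3 * (g ^ (1 : ℤ))⁻¹ := by
      have h1 := cm_conj (g := g) (a := a) 0 3 1
      norm_num at h1
      rw [zpow_one]
      exact h1.symm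
    have r03 : el g a 0 * el g a 3 * (el g a 0)⁻¹ = cm g a 0 3 * el g a 3 := by
      unfold cm
      group
    have r41 : el g a 4 * el g a 1 * (el g a 4)⁻¹ = (cm g a 1 4)⁻¹ * el g a 1 := by
      unfold cm
      group
    have r01 : el g a 0 * el g a 1 * (el g a 0)⁻¹ = el g a 1 := by rw [cc 0 1 (by norm_num) (by norm_num), mul_inv_cancel_right]
    have r02 : el g a 0 * el g a 2 * (el g a 0)⁻¹ = el g a 2 := by rw [cc 0 2 (by norm_num) (by norm_num), mul_inv_cancel_right]
    have r42 : el g a 4 * el g a 2 * (el g a 4)⁻¹ = el g a 2 := by rw [cc 4 2 (by norm_num) (by norm_num), mul_inv_cancel_right]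
    have r43 : el g a 4 * el g a 3 * (el g a 4)⁻¹ = el g a 3 := by rw [cc 4 3 (by norm_num) (by norm_num), mul_inv_cancel_right]
    -- identify the commutator
    have hc3 : cm g a 0 3 = el g a 1 * el g a 2 := by
      have n2 : el g a 2 ∉ S g T 1 1 := hD.el_notMem_right (by norm_num) (by norm_num)
      have cases3 : cm g a 0 3 = el g a 1 ∨ cm g a 0 3 = el g a 2 ∨ cm g a 0 3 = el g a 1 * el g a 2 := by
        by_cases h : cm g a 0 3 ∈ S g T 1 1
        · rcases (hD.mem_one 1 _).1 h with h | h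
          · exact absurd h hc1
          · exact Or.inl h
        · have h3 := div_mem_two (hD.relIndex_right 1 (m := 1) (by norm_num))
            (hD.el_mem (i := 2) (k := 1) (m := 2) (by norm_num) (by norm_num) (by norm_num)) n2 hc h
          rcases (hD.mem_one 1 _).1 h3 with h3 | h3
          · right; left
            exact mul_inv_eq_one.1 h3
          · right; right
            exact mul_inv_eq_iff_eq_mul.1 h3
      rcases cases3 with h | h | h
      · exfalso
        have h14 : cm g a 1 4 = el g a 2 := by rw [hcs, h, el_conj]; norm_num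
        rw [h14, hD.el_inv 2] at r41
        have t1 : (el g a 0 * el g a 4) * el g a 1 * (el g a 0 * el g a 4)⁻¹ = el g a 2 * el g a 1 := by
          calc (el g a 0 * el g a 4) * el g a 1 * (el g a 0 * el g a 4)⁻¹
              = el g a 0 * (el g a 4 * el g a 1 * (el g a 4)⁻¹) * (el g a 0)⁻¹ := by group
            _ = (el g a 0 * el g a 2 * (el g a 0)⁻¹) * (el g a 0 * el g a 1 * (el g a 0)⁻¹) := by rw [r41]; group
            _ = _ := by rw [r02, r01]
        have t2 : (el g a 0 * el g a 4) * el g a 2 * (el g a 0 * el g a 4)⁻¹ = el g a 2 := by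
          calc (el g a 0 * el g a 4) * el g a 2 * (el g a 0 * el g a 4)⁻¹
              = el g a 0 * (el g a 4 * el g a 2 * (el g a 4)⁻¹) * (el g a 0)⁻¹ := by group
            _ = _ := by rw [r42, r02]
        have t3 : (el g a 0 * el g a 4) * (el g a 2 * el g a 1) * (el g a 0 * el g a 4)⁻¹ = el g a 1 := by
          calc (el g a 0 * el g a 4) * (el g a 2 * el g a 1) * (el g a 0 * el g a 4)⁻¹
              = ((el g a 0 * el g a 4) * el g a 2 * (el g a 0 * el g a 4)⁻¹) *
                ((el g a 0 * el g a 4) * el g a 1 * (el g a 0 * el g a 4)⁻¹) := by group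
            _ = el g a 1 := by rw [t2, t1, ← mul_assoc, s2, one_mul]
        have t4 := eq_of_swap t1 t3 hk (hcom 1 (by norm_num) (by norm_num))
        exact hD.el_ne 2 (right_eq_mul.1 t4)
      · exfalso
        rw [h] at r03
        have t1 : (el g a 0 * el g a 4) * el g a 3 * (el g a 0 * el g a 4)⁻¹ = el g a 2 * el g a 3 := by
          calc (el g a 0 * el g a 4) * el g a 3 * (el g a 0 * el g a 4)⁻¹
              = el g a 0 * (el g a 4 * el g a 3 * (el g a 4)⁻¹) * (el g a 0)⁻¹ := by group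
            _ = _ := by rw [r43, r03]
        have t2 : (el g a 0 * el g a 4) * el g a 2 * (el g a 0 * el g a 4)⁻¹ = el g a 2 := by
          calc (el g a 0 * el g a 4) * el g a 2 * (el g a 0 * el g a 4)⁻¹
              = el g a 0 * (el g a 4 * el g a 2 * (el g a 4)⁻¹) * (el g a 0)⁻¹ := by group
            _ = _ := by rw [r42, r02]
        have t3 : (el g a 0 * el g a 4) * (el g a 2 * el g a 3) * (el g a 0 * el g a 4)⁻¹ = el g a 3 := by
          calc (el g a 0 * el g a 4) * (el g a 2 * el g a 3) * (el g a 0 * el g a 4)⁻¹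
              = ((el g a 0 * el g a 4) * el g a 2 * (el g a 0 * el g a 4)⁻¹) *
                ((el g a 0 * el g a 4) * el g a 3 * (el g a 0 * el g a 4)⁻¹) := by group
            _ = el g a 3 := by rw [t2, t1, ← mul_assoc, s2, one_mul]
        have t4 := eq_of_swap t1 t3 hk (hcom 3 (by norm_num) (by norm_num))
        exact hD.el_ne 2 (right_eq_mul.1 t4)
      · exact h
    have hc14 : cm g a 1 4 = el g a 2 * el g a 3 := by
      rw [hcs, hc3]
      have : g ^ (1 : ℤ) * (el g a 1 * el g a 2) * (g ^ (1 : ℤ))⁻¹ =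
          (g ^ (1 : ℤ) * el g a 1 * (g ^ (1 : ℤ))⁻¹) * (g ^ (1 : ℤ) * el g a 2 * (g ^ (1 : ℤ))⁻¹) := by group
      rw [this, el_conj, el_conj]
      norm_num
    rw [hc3] at r03
    rw [hc14, mul_inv_rev, hD.el_inv 3, hD.el_inv 2] at r41
    have c12 := cc 1 2 (by norm_num) (by norm_num)
    have c13 := cc 1 3 (by norm_num) (by norm_num)
    have c23 := cc 2 3 (by norm_num) (by norm_num)
    -- the elements `u = a₁a₂`, `v = a₂a₃`, `w = a₂`
    have su : el g a 1 * el g a 2 * (el g a 1 * el g a 2) = 1 := by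
      calc el g a 1 * el g a 2 * (el g a 1 * el g a 2) = el g a 1 * (el g a 2 * el g a 1) * el g a 2 := by group
        _ = el g a 1 * (el g a 1 * el g a 2) * el g a 2 := by rw [c12]
        _ = (el g a 1 * el g a 1) * (el g a 2 * el g a 2) := by group
        _ = 1 := by rw [s1, s2, one_mul]
    have sv : el g a 2 * el g a 3 * (el g a 2 * el g a 3) = 1 := by
      calc el g a 2 * el g a 3 * (el g a 2 * el g a 3) = el g a 2 * (el g a 3 * el g a 2) * el g a 3 := by group
        _ = el g a 2 * (el g a 2 * el g a 3) * el g a 3 := by rw [c23]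
        _ = (el g a 2 * el g a 2) * (el g a 3 * el g a 3) := by group
        _ = 1 := by rw [s2, s3, one_mul]
    have uv13 : el g a 1 * el g a 2 * (el g a 2 * el g a 3) = el g a 1 * el g a 3 := by
      rw [mul_assoc, ← mul_assoc (el g a 2), s2, one_mul]
    have vu13 : el g a 2 * el g a 3 * (el g a 1 * el g a 2) = el g a 1 * el g a 3 := by
      calc el g a 2 * el g a 3 * (el g a 1 * el g a 2) = el g a 2 * (el g a 3 * el g a 1) * el g a 2 := by group
        _ = el g a 2 * (el g a 1 * el g a 3) * el g a 2 := by rw [c13]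
        _ = (el g a 2 * el g a 1) * (el g a 3 * el g a 2) := by group
        _ = (el g a 1 * el g a 2) * (el g a 2 * el g a 3) := by rw [c12, c23]
        _ = _ := uv13
    have xu : el g a 0 * (el g a 1 * el g a 2) = el g a 1 * el g a 2 * el g a 0 := by
      rw [← mul_assoc, cc 0 1 (by norm_num) (by norm_num), mul_assoc, cc 0 2 (by norm_num) (by norm_num), mul_assoc]
    have xv : el g a 0 * (el g a 2 * el g a 3) * (el g a 0)⁻¹ = el g a 1 * el g a 2 * (el g a 2 * el g a 3) := by
      calc el g a 0 * (el g a 2 * el g a 3) * (el g a 0)⁻¹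
          = (el g a 0 * el g a 2 * (el g a 0)⁻¹) * (el g a 0 * el g a 3 * (el g a 0)⁻¹) := by group
        _ = el g a 2 * (el g a 1 * el g a 2) * el g a 3 := by rw [r02, r03]; group
        _ = (el g a 2 * el g a 1) * el g a 2 * el g a 3 := by group
        _ = _ := by rw [← c12]; group
    have zv : el g a 4 * (el g a 2 * el g a 3) = el g a 2 * el g a 3 * el g a 4 := by
      rw [← mul_assoc, cc 4 2 (by norm_num) (by norm_num), mul_assoc, cc 4 3 (by norm_num) (by norm_num), mul_assoc]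
    have zu : el g a 4 * (el g a 1 * el g a 2) * (el g a 4)⁻¹ = el g a 1 * el g a 2 * (el g a 2 * el g a 3) := by
      calc el g a 4 * (el g a 1 * el g a 2) * (el g a 4)⁻¹
          = (el g a 4 * el g a 1 * (el g a 4)⁻¹) * (el g a 4 * el g a 2 * (el g a 4)⁻¹) := by group
        _ = el g a 3 * el g a 2 * el g a 1 * el g a 2 := by rw [r41, r42]
        _ = (el g a 2 * el g a 3) * (el g a 1 * el g a 2) := by rw [c23]; group
        _ = _ := by rw [vu13, uv13]
    have hcen : ∀ y : H, y * ⟨el g a 2, m2⟩ = ⟨el g a 2, m2⟩ * y := by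
      intro y
      have h1 : H ≤ Subgroup.centralizer ({el g a 2} : Set G) := by
        refine hle _ fun i h0 h1 => Subgroup.mem_centralizer_singleton_iff.2 ?_
        exact cc i 2 (by push_cast at *; omega) (by push_cast at *; omega)
      exact Subtype.ext (Subgroup.mem_centralizer_singleton_iff.1 (h1 y.2))
    have hv1 : el g a 2 * el g a 3 ≠ 1 := by
      intro h
      have h1 : el g a 3 = el g a 2 := by
        rw [mul_eq_one_iff_eq_inv, hD.el_inv] at h
        exact h.symm
      have h3 : el g a 2 ∉ S g T 3 1 := hD.el_notMem_left (by norm_num) (by norm_num)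
      exact h3 ((hD.mem_one 3 _).2 (Or.inr h1.symm))
    have hfour := core_four (x := (⟨el g a 0, m0⟩ : H)) (z := ⟨el g a 4, m4⟩)
      (u := (⟨el g a 1, m1⟩ : H) * ⟨el g a 2, m2⟩) (v := (⟨el g a 2, m2⟩ : H) * ⟨el g a 3, m3⟩)
      (w := ⟨el g a 2, m2⟩) (Subtype.ext (hD.el_sq 0)) (Subtype.ext (hD.el_sq 4)) (Subtype.ext su)
      (Subtype.ext sv) (Subtype.ext s2) (Subtype.ext (uv13.trans vu13.symm)) (Subtype.ext xu) (Subtype.ext xv)
      (Subtype.ext zv) (Subtype.ext zu) hcen ?_ (fun h => hv1 (congrArg Subtype.val h)) hk ?_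
    · rcases hfour with ⟨h, _⟩ | ⟨_, h⟩
      · exact absurd (congrArg Subtype.val h) (hD.el_ne 2)
      · exact h
    · refine gen_top (hle _ fun i h0 h1 => ?_)
      set A : Set H := {(⟨el g a 0, m0⟩ : H), ⟨el g a 4, m4⟩, (⟨el g a 1, m1⟩ : H) * ⟨el g a 2, m2⟩,
        (⟨el g a 2, m2⟩ : H) * ⟨el g a 3, m3⟩, ⟨el g a 2, m2⟩} with hA
      have a2 : el g a 2 ∈ Subgroup.closure (H.subtype '' A) := Subgroup.subset_closure ⟨⟨el g a 2, m2⟩, by simp [hA], rfl⟩
      have h3 : i = 0 ∨ i = 1 ∨ i = 2 ∨ i = 3 ∨ i = 4 := by push_cast at h1; omega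
      rcases h3 with rfl | rfl | rfl | rfl | rfl
      · exact Subgroup.subset_closure ⟨⟨el g a 0, m0⟩, by simp [hA], rfl⟩
      · have a12 : el g a 1 * el g a 2 ∈ Subgroup.closure (H.subtype '' A) :=
          Subgroup.subset_closure ⟨(⟨el g a 1, m1⟩ : H) * ⟨el g a 2, m2⟩, by simp [hA], rfl⟩
        have := mul_mem a12 (inv_mem a2)
        rwa [mul_inv_cancel_right] at this
      · exact a2
      · have a23 : el g a 2 * el g a 3 ∈ Subgroup.closure (H.subtype '' A) :=
          Subgroup.subset_closure ⟨(⟨el g a 2, m2⟩ : H) * ⟨el g a 3, m3⟩, by simp [hA], rfl⟩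
        have := mul_mem (inv_mem a2) a23
        rwa [inv_mul_cancel_left] at this
      · exact Subgroup.subset_closure ⟨⟨el g a 4, m4⟩, by simp [hA], rfl⟩
    · refine mem_closure_of ?_
      refine (hD.le_of_gen _ 1 3 (by norm_num) fun i h0 h1 => ?_) hrk
      set A : Set H := {(⟨el g a 1, m1⟩ : H) * ⟨el g a 2, m2⟩, (⟨el g a 2, m2⟩ : H) * ⟨el g a 3, m3⟩, ⟨el g a 2, m2⟩} with hA
      have a2 : el g a 2 ∈ Subgroup.closure (H.subtype '' A) := Subgroup.subset_closure ⟨⟨el g a 2, m2⟩, by simp [hA], rfl⟩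
      have h3 : i = 1 ∨ i = 2 ∨ i = 3 := by push_cast at h1; omega
      rcases h3 with rfl | rfl | rfl
      · have a12 : el g a 1 * el g a 2 ∈ Subgroup.closure (H.subtype '' A) :=
          Subgroup.subset_closure ⟨(⟨el g a 1, m1⟩ : H) * ⟨el g a 2, m2⟩, by simp [hA], rfl⟩
        have := mul_mem a12 (inv_mem a2)
        rwa [mul_inv_cancel_right] at this
      · exact a2
      · have a23 : el g a 2 * el g a 3 ∈ Subgroup.closure (H.subtype '' A) :=
          Subgroup.subset_closure ⟨(⟨el g a 2, m2⟩ : H) * ⟨el g a 3, m3⟩, by simp [hA], rfl⟩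
        have := mul_mem (inv_mem a2) a23
        rwa [inv_mul_cancel_left] at this

end Cfsg.Agent.H581.Sims
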