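import Mathlib
import Cfsg.Agent.H94.PrimeGraph

/-!
# Hall coverings (helper581, for S4388): the interface

* `IsHallFor σ H` : `H` is a Hall `σ`-subgroup (no prime of `σ` divides the index, only primes of `σ` divide the order);
* `HC S σ` : `2 ∈ σ`; no element of `S` has an order divisible by a prime in `σ` and a prime not in `σ`; some prime divisor
  of `|S|` is not in `σ`; **every element whose order is divisible by a prime in `σ` lies in a Hall `σ`-subgroup**;
* `HC.adj`, `HC.conn`, `HC.commute` : `σ` is closed under adjacency in the prime graph;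
* `HC.ne_top`, `HC.congr`, `IsHallFor.exists_conj_le` (a Hall `σ`-subgroup contains a conjugate of every `r`-subgroup, `r ∈ σ`).
-/

set_option autoImplicit false
set_option linter.unusedSectionVars false

namespace Cfsg.Agent.H581

open Subgroup

variable {S S' : Type*} [Group S] [Group S'] {σ : Set ℕ}

/-- `H` is a Hall `σ`-subgroup. -/
structure IsHallFor (σ : Set ℕ) (H : Subgroup S) : Prop where
  index : ∀ r : ℕ, r.Prime → r ∈ σ → ¬ r ∣ H.index
  card : ∀ r : ℕ, r.Prime → r ∣ Nat.card H → r ∈ σ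

/-- The Hall covering property of `S` for the set of primes `σ` containing `2`. -/
structure HC (S : Type*) [Group S] (σ : Set ℕ) : Prop where
  two : 2 ∈ σ
  iso : ∀ (g : S) (a b : ℕ), a.Prime → b.Prime → a ∣ orderOf g → b ∣ orderOf g → a ∈ σ → b ∈ σ
  ne : ∃ r : ℕ, r.Prime ∧ r ∣ Nat.card S ∧ r ∉ σ
  cov : ∀ (g : S) (a : ℕ), a.Prime → a ∣ orderOf g → a ∈ σ → ∃ H : Subgroup S, g ∈ H ∧ IsHallFor σ H

/-! ### Hall subgroups -/

theorem IsHallFor.coprime {H : Subgroup S} (h : IsHallFor σ H) : (Nat.card H).Coprime H.index := by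
  rw [Nat.coprime_iff_gcd_eq_one]
  by_contra hne
  obtain ⟨r, hr, hd⟩ := Nat.exists_prime_and_dvd hne
  exact h.index r hr (h.card r hr (hd.trans (Nat.gcd_dvd_left _ _))) (hd.trans (Nat.gcd_dvd_right _ _))

theorem IsHallFor.map_equiv {H : Subgroup S} (h : IsHallFor σ H) (e : S ≃* S') :
    IsHallFor σ (H.map e.toMonoidHom) := by
  refine ⟨fun r hr hrσ hd => h.index r hr hrσ ?_, fun r hr hd => h.card r hr ?_⟩
  · rwa [Subgroup.index_map_of_bijective e.bijective] at hd
  · rwa [← Nat.card_congr (H.equivMapOfInjective _ e.injective).toEquiv] at hd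

theorem IsHallFor.conj {H : Subgroup S} (h : IsHallFor σ H) (g : S) :
    IsHallFor σ (H.map (MulAut.conj g).toMonoidHom) := h.map_equiv (MulAut.conj g)

/-- a Hall `σ`-subgroup contains a conjugate of every `r`-subgroup, `r ∈ σ` -/
theorem IsHallFor.exists_conj_le [Finite S] {H R : Subgroup S} (h : IsHallFor σ H) {r : ℕ} (hr : r.Prime) (hrσ : r ∈ σ)
    (hR : IsPGroup r R) : ∃ g : S, R.map (MulAut.conj g).toMonoidHom ≤ H := by
  have : Fact r.Prime := ⟨hr⟩
  obtain ⟨P⟩ : Nonempty (Sylow r ↥H) := inferInstance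
  let P' : Subgroup S := (P : Subgroup ↥H).map H.subtype
  have hP' : IsPGroup r P' := P.isPGroup'.map _
  have hidx : ¬ r ∣ P'.index := by
    have h1 : P'.index = (P : Subgroup ↥H).index * H.index := Subgroup.index_map_subtype (P : Subgroup ↥H)
    rw [h1, hr.dvd_mul]
    rintro (h2 | h2)
    · exact P.not_dvd_index h2
    · exact h.index r hr hrσ h2
  obtain ⟨Q, hQ⟩ := hR.exists_le_sylow
  let P'' : Sylow r S := hP'.toSylow hidx
  obtain ⟨g, hg⟩ := MulAction.exists_smul_eq S Q P''
  refine ⟨g, ?_⟩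
  have h3 : (g • Q : Sylow r S) = P'' := hg
  have h4 : ((g • Q : Sylow r S) : Subgroup S) ≤ H := by
    rw [h3]
    exact Subgroup.map_subtype_le _
  refine le_trans ?_ h4
  exact Subgroup.map_mono hQ

/-- the order of a Hall `σ`-subgroup, prime by prime -/
theorem IsHallFor.factorization [Finite S] {H : Subgroup S} (h : IsHallFor σ H) {r : ℕ} (hr : r.Prime) (hrσ : r ∈ σ) :
    (Nat.card H).factorization r = (Nat.card S).factorization r := by
  have h1 : Nat.card H * H.index = Nat.card S := H.card_mul_index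
  have h2 : H.index.factorization r = 0 := Nat.factorization_eq_zero_of_not_dvd (h.index r hr hrσ)
  rw [← h1, Nat.factorization_mul Nat.card_pos.ne' Subgroup.index_ne_zero_of_finite, Finsupp.add_apply, h2, add_zero]

theorem IsHallFor.dvd_card [Finite S] {H : Subgroup S} (h : IsHallFor σ H) {r k : ℕ} (hr : r.Prime) (hrσ : r ∈ σ)
    (hk : r ^ k ∣ Nat.card S) : r ^ k ∣ Nat.card H := by
  rw [← H.card_mul_index] at hk
  exact Nat.Coprime.dvd_of_dvd_mul_right
    (Nat.Coprime.pow_left k ((Nat.Prime.coprime_iff_not_dvd hr).2 (h.index r hr hrσ))) hk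

/-! ### the covering property -/

theorem HC.congr (e : S ≃* S') (h : HC S σ) : HC S' σ := by
  refine ⟨h.two, ?_, ?_, ?_⟩
  · intro g a b ha hb hda hdb haσ
    have h1 : orderOf (e.symm g) = orderOf g := MulEquiv.orderOf_eq e.symm g
    exact h.iso (e.symm g) a b ha hb (by rwa [h1]) (by rwa [h1]) haσ
  · obtain ⟨r, hr, hd, hn⟩ := h.ne
    exact ⟨r, hr, by rwa [← Nat.card_congr e.toEquiv], hn⟩
  · intro g a ha hda haσ
    have h1 : orderOf (e.symm g) = orderOf g := MulEquiv.orderOf_eq e.symm g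
    obtain ⟨H, hg, hH⟩ := h.cov (e.symm g) a ha (by rwa [h1]) haσ
    exact ⟨H.map e.toMonoidHom, ⟨e.symm g, hg, by simp⟩, hH.map_equiv e⟩

theorem HC.adj {a b : ℕ} (h : HC S σ) (ha : a ∈ σ) (hab : H94.PG.Adj S a b) : b ∈ σ := by
  obtain ⟨hap, hbp, hne, x, y, hx, hy, hc⟩ := hab
  have hco : (orderOf x).Coprime (orderOf y) := by
    rw [hx, hy]; exact (Nat.coprime_primes hap hbp).2 hne
  have h1 : orderOf (x * y) = a * b := by
    rw [hc.orderOf_mul_eq_mul_orderOf_of_coprime hco, hx, hy]
  exact h.iso (x * y) a b hap hbp (by rw [h1]; exact dvd_mul_right _ _) (by rw [h1]; exact dvd_mul_left _ _) ha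

/-- `σ` contains the component of each of its members -/
theorem HC.conn {a b : ℕ} (h : HC S σ) (ha : a ∈ σ) (hab : H94.PG.Conn S a b) : b ∈ σ := by
  induction hab with
  | refl => exact ha
  | tail _ hbc ih => exact h.adj ih hbc

/-- version with the other form of the adjacency relation -/
theorem HC.conn' {a b : ℕ} (h : HC S σ) (ha : a ∈ σ)
    (hab : Relation.ReflTransGen (fun a b : ℕ => a.Prime ∧ b.Prime ∧ a ≠ b ∧ ∃ g : S, orderOf g = a * b) a b) : b ∈ σ := by
  induction hab with
  | refl => exact ha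
  | tail _ hbc ih =>
    obtain ⟨h1, h2, -, g, hg⟩ := hbc
    exact h.iso g _ _ h1 h2 (by rw [hg]; exact dvd_mul_right _ _) (by rw [hg]; exact dvd_mul_left _ _) ih

/-- commuting elements -/
theorem HC.commute [Finite S] {a b : ℕ} (h : HC S σ) (ha : a ∈ σ) {x y : S} (hxy : Commute x y) (hap : a.Prime)
    (hbp : b.Prime) (hx : a ∣ orderOf x) (hy : b ∣ orderOf y) : b ∈ σ := by
  rcases eq_or_ne a b with rfl | hne
  · exact ha
  · exact h.adj ha (H94.PG.adj_of_dvd hap hbp hne hxy hx hy (orderOf_pos x).ne' (orderOf_pos y).ne')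

/-- the Hall subgroups of the covering are proper -/
theorem HC.ne_top {H : Subgroup S} (h : HC S σ) (hH : IsHallFor σ H) : H ≠ ⊤ := by
  rintro rfl
  obtain ⟨r, hr, hd, hn⟩ := h.ne
  refine hn (hH.card r hr ?_)
  rwa [Subgroup.card_top]

theorem HC.even_card [Finite S] (h : HC S σ) {H : Subgroup S} (hH : IsHallFor σ H) : ¬ 2 ∣ H.index :=
  hH.index 2 Nat.prime_two h.two

/-- there is a Hall `σ`-subgroup if `|S|` is even -/
theorem HC.exists_hall [Finite S] (h : HC S σ) (h2 : 2 ∣ Nat.card S) : ∃ H : Subgroup S, IsHallFor σ H := by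
  have : Fact (Nat.Prime 2) := ⟨Nat.prime_two⟩
  obtain ⟨x, hx⟩ := exists_prime_orderOf_dvd_card' (G := S) 2 h2
  obtain ⟨H, -, hH⟩ := h.cov x 2 Nat.prime_two (by rw [hx]) h.two
  exact ⟨H, hH⟩

/-- all Hall `σ`-subgroups have the same order -/
theorem IsHallFor.card_eq [Finite S] {H K : Subgroup S} (hH : IsHallFor σ H) (hK : IsHallFor σ K) :
    Nat.card H = Nat.card K := by
  refine Nat.eq_of_factorization_eq Nat.card_pos.ne' Nat.card_pos.ne' fun r => ?_
  by_cases hr : r.Prime
  · by_cases hrσ : r ∈ σ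
    · rw [hH.factorization hr hrσ, hK.factorization hr hrσ]
    · rw [Nat.factorization_eq_zero_of_not_dvd fun hd => hrσ (hH.card r hr hd),
        Nat.factorization_eq_zero_of_not_dvd fun hd => hrσ (hK.card r hr hd)]
  · rw [Nat.factorization_eq_zero_of_not_prime _ hr, Nat.factorization_eq_zero_of_not_prime _ hr]

/-- a normal `σ`-subgroup is contained in every Hall `σ`-subgroup -/
theorem IsHallFor.normal_le [Finite S] {H N : Subgroup S} (hH : IsHallFor σ H) [N.Normal]
    (hN : ∀ r : ℕ, r.Prime → r ∣ Nat.card N → r ∈ σ) : N ≤ H := by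
  have hle : H ≤ H ⊔ N := le_sup_left
  have h2 : H.relIndex (H ⊔ N) = 1 := by
    by_contra hne
    obtain ⟨r, hr, hd⟩ := Nat.exists_prime_and_dvd hne
    have h3 : r ∣ H.index := hd.trans (Subgroup.relIndex_dvd_index_of_le hle)
    have h4 : r ∣ Nat.card ↥(H ⊔ N) := hd.trans (Subgroup.relIndex_dvd_card H (H ⊔ N))
    have h5 : Nat.card N * N.relIndex H = Nat.card ↥(H ⊔ N) := by
      rw [← Subgroup.relIndex_sup_right H N, Subgroup.relIndex,
        ← Nat.card_congr (Subgroup.subgroupOfEquivOfLe (le_sup_right : N ≤ H ⊔ N)).toEquiv]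
      exact (N.subgroupOf (H ⊔ N)).card_mul_index
    rw [← h5, hr.dvd_mul] at h4
    have h6 : r ∈ σ := by
      rcases h4 with h4 | h4
      · exact hN r hr h4
      · exact hH.card r hr (h4.trans (Subgroup.relIndex_dvd_card N H))
    exact hH.index r hr h6 h3
  exact le_sup_right.trans (Subgroup.relIndex_eq_one.1 h2)

end Cfsg.Agent.H581
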