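import Mathlib
import Cfsg.Agent.H581.RowsG
import Cfsg.Agent.H554.LieTwF4
import Cfsg.Agent.H378.TwRowsF
import Cfsg.Agent.S0311
import Cfsg.Agent.S1152
import Cfsg.Agent.S1157
import Cfsg.Agent.ClassicalGeometry.PSL2Basic

/-!
# No Hall coverings: `²F₄(q)`, `²G₂(q)` (helper581)
-/

set_option autoImplicit false
set_option linter.unusedSectionVars false
set_option linter.style.haveILetI false

namespace Cfsg.Agent.H581.RowsH

open Subgroup Cfsg Cfsg.Lie Cfsg.Agent.FixBN Cfsg.Agent.H554.SplitTorus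
open Cfsg.Agent.H581 Cfsg.Agent.H581.RowsF Cfsg.Agent.H581.RowsG
open Cfsg.Agent.Schreier.BNSch

section Split

variable {K : Type*} [Group K] [Finite K]

/-- A Hall subgroup containing a Sylow `p`-subgroup lies in a conjugate of a proper overgroup of `B`. -/
theorem exists_over [IsSimpleGroup K] {P : Cfsg.BNPair K} {p : ℕ} [Fact p.Prime] {U : Subgroup K} (hne : P.S.Nonempty)
    (h : Split P p U) {σ : Set ℕ} (hc : HC K σ) (hp : p ∈ σ) {H : Subgroup K} (hH : IsHallFor σ H) :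
    ∃ (H' : Subgroup K) (Z : Subgroup K), IsHallFor σ H' ∧ H' ≤ Z ∧ P.B ≤ Z ∧ ∃ s ∈ P.S, s ∉ Z := by
  obtain ⟨g, hg⟩ := hH.exists_conj_le Fact.out hp h.isP
  have h1 : IsHallFor σ (H.map (MulAut.conj g⁻¹).toMonoidHom) := hH.conj g⁻¹
  have h2 : U ≤ H.map (MulAut.conj g⁻¹).toMonoidHom := by
    intro u hu
    refine ⟨g * u * g⁻¹, hg ⟨u, hu, rfl⟩, ?_⟩
    show g⁻¹ * (g * u * g⁻¹) * g⁻¹⁻¹ = u
    group
  obtain ⟨Z, hZ1, hZ2, hZ3⟩ := exists_parabolic P hne h h2 (hc.ne_top h1)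
  exact ⟨_, Z, h1, hZ1, hZ2, hZ3⟩

/-- the index of `B` in a minimal parabolic subgroup -/
theorem relIndex_parabolic_le {P : Cfsg.BNPair K} {U V : Subgroup K} {s : K} (hN : Node P U s V) (hs : s ∈ P.S)
    (hUB : U ≤ P.B) (hUN : ∀ b ∈ P.B, ∃ u ∈ U, u⁻¹ * b ∈ P.N) {ι : Type*} [Finite ι] (x : ι → K) (hxB : ∀ i, x i ∈ P.B)
    (hx : ∀ u ∈ U, ∃ i, ∃ v ∈ V, u = x i * v) : P.B.relIndex (P.parabolic {s}) ≤ Nat.card ι + 1 := by
  have hsP := mem_parabolic_self P s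
  have hBP := B_le_parabolic P {s}
  let f : Option ι → (↥(P.parabolic {s}) ⧸ P.B.subgroupOf (P.parabolic {s})) := fun o =>
    match o with
    | none => QuotientGroup.mk 1
    | some i => QuotientGroup.mk ⟨x i * s, mul_mem (hBP (hxB i)) hsP⟩
  have hf : Function.Surjective f := by
    intro y
    induction y using QuotientGroup.induction_on with
    | _ g =>
      by_cases hg : (g : K) ∈ P.B
      · refine ⟨none, ?_⟩
        apply QuotientGroup.eq.2
        rw [inv_one, one_mul, Subgroup.mem_subgroupOf]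
        exact hg
      · obtain ⟨u, hu, b, hb, e⟩ := exists_of_mem_parabolic P hUB hUN hs g.2 hg
        obtain ⟨i, v, hv, rfl⟩ := hx u hu
        refine ⟨some i, ?_⟩
        apply QuotientGroup.eq.2
        rw [Subgroup.mem_subgroupOf]
        show (x i * s)⁻¹ * (g : K) ∈ P.B
        rw [e]
        have e1 : (x i * s)⁻¹ * (x i * v * s * b) = (s⁻¹ * v * s) * b := by group
        rw [e1]
        exact mul_mem (hUB (hN.le (hN.conj_s v hv))) hb
  have h1 := Nat.card_le_card_of_surjective f hf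
  rwa [Finite.card_option] at h1

end Split

namespace TF4

open Cfsg.Agent.ChevalleyStructure.TwF4.Tables
open Cfsg.Agent.ChevalleyStructure.TwF4.Rel
open Cfsg.Agent.ChevalleyStructure.TwF4.Groups Cfsg.Agent.ChevalleyStructure.TwF4.RankOne
open Cfsg.Agent.ChevalleyStructure.TwF4.Twisted Cfsg.Agent.ChevalleyStructure.TwF4.TwistedFix
open Cfsg.Agent.ChevalleyStructure.TwF4.BN
open Cfsg.Agent.ChevalleyStructure.TwF4.Torus (T chi T_conj_X T_inr chi_def)
open Cfsg.Agent.ChevalleyStructure.F4NTab (ca)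
open Cfsg.Agent.ChevalleyStructure.TwF4.TwGen (tc tc_mul chi_tc_24 chi_tc_25 chi_tc_33 chi_tc_27 chi28 chi30 pow_all
  n1_eq n2_eq n1_conj_T n2_conj_T)
open Cfsg.Agent.ChevalleyStructure.TwF4.TorusFix (mem_iff pow_unit T_rt rt)
open Cfsg.Agent.ChevalleyStructure.TwF4.Fix (Fix)
open Cfsg.Agent.ChevalleyStructure.TwF4.OrderCls (X_inj)
open Cfsg.Agent.Schreier.TwFFour
open Cfsg.Agent.Octagon.KSys Cfsg.Agent.Octagon.KPar Cfsg.Agent.Octagon.KRoot Cfsg.Agent.Octagon.Pkg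
open Cfsg.Agent.ParSys.Fam.TwoFFour

variable {K : Type*} [Field K] [Fintype K] {m : ℕ}

/-- the split (B,N)-pair of `²F₄(q)` -/
theorem exists_split (hm : 1 ≤ m) (hK : Fintype.card K = 2 ^ (2 * m + 1)) :
    ∃ (P : Cfsg.BNPair ↥(twistedF4 K (2 ^ m))) (U : Subgroup ↥(twistedF4 K (2 ^ m))), P.S.Nonempty ∧
      FixBN.Split P 2 U ∧ Nat.card ↥(P.B ⊓ P.N) = (2 ^ (2 * m + 1) - 1) ^ 2 ∧
      ∀ s ∈ P.S, ∃ t ∈ P.S, P.S ⊆ {s, t} ∧ P.B.relIndex (P.parabolic {t}) ≤ Nat.card K ^ 2 + 1 := by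
  haveI : CharP K 2 := charP_two hK
  haveI : Fact (Nat.Prime 2) := ⟨Nat.prime_two⟩
  obtain ⟨φ, hφ⟩ := exists_rln hK
  obtain ⟨P, hPB, hPN, -, hPS⟩ := Cfsg.Agent.ChevalleyStructure.TwF4.BNIrred.exists_bnPair_irreducible hφ
  have hB : P.B = B0 K (2 ^ m) := hPB
  have hdec := dec hK hφ
  have hUp := isPGroup_U0 hK
  obtain ⟨c, hc0, hc1⟩ := card_ge hm hK
  set s1 : ↥(twistedF4 K (2 ^ m)) := m1 K (2 ^ m) with hs1
  set s2 : ↥(twistedF4 K (2 ^ m)) := m2 hφ with hs2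
  have node_1 : Cfsg.Agent.Schreier.BNSch.Node P (U0 K (2 ^ m)) s1 (V1 K (2 ^ m)) := node1 hφ hB
  have node_2 : Cfsg.Agent.Schreier.BNSch.Node P (U0 K (2 ^ m)) s2 (V8 K (2 ^ m)) := node2 hφ hB
  have hdB : ∀ b ∈ P.B, ∃ s t : Kˣ, ∃ u ∈ U0 K (2 ^ m), b = u * tt hdec s t := by
    intro b hb
    rw [hB] at hb
    obtain ⟨s, t, u, hu, hbu⟩ := hdec.1 b hb
    exact ⟨s, t, u, hu, Subtype.ext hbu⟩
  have httB : ∀ s t : Kˣ, tt hdec s t ∈ P.B := fun s t => by rw [hB]; exact tt_B0 hdec s t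
  have httN : ∀ s t : Kˣ, tt hdec s t ∈ P.N := fun s t => by
    rw [hPN]
    exact Cfsg.Agent.ChevalleyStructure.TwF4.NStruct.T_mem_N _
  have hH : ∀ h ∈ P.B, h ∈ P.N → ∃ s t : Kˣ, h = tt hdec s t := by
    intro h hh hN
    rw [hPB, Subgroup.mem_subgroupOf] at hh
    rw [hPN, Subgroup.mem_subgroupOf] at hN
    have h1 := borel_inf_N ⟨hh, hN⟩
    obtain ⟨s, t, hst⟩ := (mem_iff hK (h : GL chevF4.Idx K)).1 ⟨h1, h.2⟩
    exact ⟨s, t, Subtype.ext hst⟩
  have hUB : U0 K (2 ^ m) ≤ P.B := by rw [hB]; exact U0_le_B0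
  have hnorm : ∀ b ∈ P.B, ∀ u ∈ U0 K (2 ^ m), b * u * b⁻¹ ∈ U0 K (2 ^ m) := fun b hb u hu => by
    rw [hB] at hb
    exact conj_U0 hb hu
  have hcover : ∀ b ∈ P.B, ∃ u ∈ U0 K (2 ^ m), u⁻¹ * b ∈ P.N := fun b hb => by
        obtain ⟨s, t, u, hu, rfl⟩ := hdB b hb
        refine ⟨u, hu, ?_⟩
        rw [inv_mul_cancel_left]
        exact httN s t
  have hsplit : FixBN.Split P 2 (U0 K (2 ^ m)) :=
    { le := hUB
      norm := hnorm
      isP := hUp
      cover := hcover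
      tor := ⟨2 ^ (2 * m + 1) - 1, by
        have h1 : 2 ∣ 2 ^ (2 * m + 1) := dvd_pow_self 2 (by omega)
        have h2 : 0 < 2 ^ (2 * m + 1) := by positivity
        omega, fun h hh hN => by
        obtain ⟨s, t, rfl⟩ := hH h hh hN
        apply Subtype.ext
        show T (tc (2 ^ m) s t) ^ (2 ^ (2 * m + 1) - 1) = 1
        rw [← map_pow]
        have h2 : tc (2 ^ m) s t ^ (2 ^ (2 * m + 1) - 1) = 1 := by
          have h3 : ∀ x : Kˣ, x ^ (2 ^ (2 * m + 1) - 1) = 1 := by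
            intro x
            have h4 := pow_card_eq_one' (x := x)
            rwa [Nat.card_units, Nat.card_eq_fintype_card, hK] at h4
          funext l
          rw [Pi.pow_apply, h3]; rfl
        rw [h2, map_one]⟩
      node := by
        intro s hs
        rw [hPS] at hs
        rcases hs with rfl | hs
        · exact ⟨_, node_1⟩
        · rw [Set.mem_singleton_iff] at hs
          subst hs
          exact ⟨_, node_2⟩
      core := by
        obtain ⟨hsimp, -⟩ := Cfsg.Agent.S1072.result hm hK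
        rcases hsimp.eq_bot_or_eq_top_of_normal P.B.normalCore inferInstance with h | h
        · exact h
        · exfalso
          have h1 : P.B = ⊤ := by
            rw [eq_top_iff, ← h]
            exact Subgroup.normalCore_le _
          obtain ⟨u, hu, huV⟩ := node_1.ne
          exact huV (node_1.stab u hu (by rw [h1]; exact Subgroup.mem_top _)) }
  have hdiag : ∀ g : ↥(twistedF4 K (2 ^ m)), g ∈ P.B → g ∈ P.N →
      (g : GL chevF4.Idx K) ∈ chevF4.diagonalSubgroup K ⊓ twistedF4 K (2 ^ m) := by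
    intro g hh hN
    rw [hPB, Subgroup.mem_subgroupOf] at hh
    rw [hPN, Subgroup.mem_subgroupOf] at hN
    exact ⟨borel_inf_N ⟨hh, hN⟩, g.2⟩
  have hs1S : s1 ∈ P.S := by
    rw [hPS]
    exact Set.mem_insert _ _
  have hs2S : s2 ∈ P.S := by
    rw [hPS]
    exact Set.mem_insert_of_mem _ rfl
  have hq1 : 1 ≤ Nat.card K := Nat.card_pos
  have hr1 : P.B.relIndex (P.parabolic {s1}) ≤ Nat.card K ^ 2 + 1 := by
    refine (relIndex_parabolic_le node_1 hs1S hUB hcover (fun t : K => (⟨xa (2 ^ m) t, xa_mem t⟩ :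
      ↥(twistedF4 K (2 ^ m)))) (fun t => hUB (xa_U t)) fun u hu => ?_).trans ?_
    · obtain ⟨v, hv, t, e⟩ := decomp_a (u := (u : GL chevF4.Idx K)) hφ hu u.2
      refine ⟨t, (⟨xa (2 ^ m) t, xa_mem t⟩ : ↥(twistedF4 K (2 ^ m)))⁻¹ * u, ?_, by group⟩
      show (xa (2 ^ m) t)⁻¹ * (u : GL chevF4.Idx K) ∈ GA K (geB 2)
      rw [e]
      have h5 : (xa (2 ^ m) t)⁻¹ * (v * xa (2 ^ m) t) = (xa (2 ^ m) t)⁻¹ * v * (xa (2 ^ m) t)⁻¹⁻¹ := by group
      rw [h5]
      exact norm_ge2 (inv_mem (xa_U t)) hv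
    · have : Nat.card K ≤ Nat.card K ^ 2 := Nat.le_self_pow (by norm_num) _
      omega
  have hr2 : P.B.relIndex (P.parabolic {s2}) ≤ Nat.card K ^ 2 + 1 := by
    refine (relIndex_parabolic_le node_2 hs2S hUB hcover (fun t : K × K => (⟨xb (2 ^ m) t.1 t.2, xb_mem t.1 t.2⟩ :
      ↥(twistedF4 K (2 ^ m)))) (fun t => hUB (xb_U t.1 t.2)) fun u hu => ?_).trans ?_
    · obtain ⟨v, hv, t, z, e⟩ := decomp_b (u := (u : GL chevF4.Idx K)) hφ hu u.2
      refine ⟨(t, z), (⟨xb (2 ^ m) t z, xb_mem t z⟩ : ↥(twistedF4 K (2 ^ m)))⁻¹ * u, ?_, by group⟩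
      show (xb (2 ^ m) t z)⁻¹ * (u : GL chevF4.Idx K) ∈ GA K (leB 7)
      rw [e]
      have h5 : (xb (2 ^ m) t z)⁻¹ * (v * xb (2 ^ m) t z) = (xb (2 ^ m) t z)⁻¹ * v * (xb (2 ^ m) t z)⁻¹⁻¹ := by group
      rw [h5]
      exact norm_le7 (inv_mem (xb_U t z)) hv
    · rw [Nat.card_prod, pow_two]
  refine ⟨P, _, ⟨s1, hs1S⟩, hsplit, ?_, ?_⟩
  · rw [← Cfsg.Agent.S1110.result hK]
    refine Nat.card_congr (Equiv.ofBijective (fun g : ↥(P.B ⊓ P.N) =>
      (⟨((g : ↥(twistedF4 K (2 ^ m))) : GL chevF4.Idx K), ?_⟩ :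
        ↥(chevF4.diagonalSubgroup K ⊓ twistedF4 K (2 ^ m)))) ⟨?_, ?_⟩)
    · exact hdiag g.1 g.2.1 g.2.2
    · intro a b e
      exact Subtype.ext (Subtype.ext (congrArg (fun z : ↥(chevF4.diagonalSubgroup K ⊓ twistedF4 K (2 ^ m)) =>
        (z : GL chevF4.Idx K)) e))
    · rintro ⟨g, hg⟩
      obtain ⟨s, t, hst⟩ := (mem_iff hK g).1 hg
      exact ⟨⟨tt hdec s t, httB s t, httN s t⟩, Subtype.ext hst.symm⟩
  · intro s hs
    rw [hPS] at hs
    rcases hs with rfl | hs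
    · exact ⟨s2, hs2S, hPS.le, hr2⟩
    · rw [Set.mem_singleton_iff] at hs
      subst hs
      exact ⟨s1, hs1S, hPS.le.trans (Set.pair_comm _ _).le, hr1⟩

end TF4

open Cfsg.Agent.H378.ExcAdj in
/-- **`²F₄(q)`, `q ≥ 8`.** -/
theorem hc_2F4 {K : Type*} [Field K] [Fintype K] {m : ℕ} (hm : 1 ≤ m) (hK : Fintype.card K = 2 ^ (2 * m + 1)) {σ : Set ℕ}
    (hc : HC ↥(twistedF4 K (2 ^ m)) σ) : False := by
  obtain ⟨hs, hna⟩ := Cfsg.Agent.S1072.result hm hK
  have hcard := Cfsg.Agent.S1068.result hK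
  obtain ⟨P, U, hne, hsp, htor, hpar⟩ := TF4.exists_split hm hK
  have hfin : Finite ↥(twistedF4 K (2 ^ m)) := inferInstance
  have hp2 : Fact (Nat.Prime 2) := ⟨Nat.prime_two⟩
  have hNK : Nat.card K = 2 ^ (2 * m + 1) := by rw [Nat.card_eq_fintype_card, hK]
  rw [← hNK] at hcard htor
  set q := Nat.card K with hq
  have hq8 : 8 ≤ q := by
    rw [hNK]
    calc 8 = 2 ^ 3 := by norm_num
      _ ≤ 2 ^ (2 * m + 1) := Nat.pow_le_pow_right (by norm_num) (by omega)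
  have heven : 2 ∣ q := by rw [hNK]; exact dvd_pow_self 2 (by omega)
  have h2c : 2 ∣ Nat.card ↥(twistedF4 K (2 ^ m)) := by
    rw [hcard]
    exact ((((heven.trans (dvd_pow_self q (by norm_num))).mul_right _).mul_right _).mul_right _).mul_right _
  obtain ⟨H0, hH0⟩ := hc.exists_hall h2c
  obtain ⟨H, Z, hH, hHZ, hBZ, s, hs, hsZ⟩ := exists_over hne hsp hc hc.two hH0
  obtain ⟨t, ht, hst, hrel⟩ := hpar s hs
  -- `Z` is in the minimal parabolic subgroup
  have hZ : Z ≤ P.parabolic {t} := by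
    obtain ⟨J, hJ, hZJ⟩ := Cfsg.Agent.S0311.result P Z hBZ
    rw [hZJ]
    refine sup_le_sup_left (Subgroup.closure_mono fun x hx => ?_) P.B
    rcases hst (hJ hx) with h | h
    · exfalso
      apply hsZ
      rw [hZJ]
      rw [← h]
      exact (le_sup_right : Subgroup.closure J ≤ P.parabolic J) (Subgroup.subset_closure hx)
    · exact h
  -- the index of `H`
  have hod : ∀ r : ℕ, r.Prime → r ∣ H.index → od q r = 12 := by
    intro r hr hd
    rcases H378.TwRowsF.near_2F4 hm hK hr (hd.trans H.index_dvd_card) with h | h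
    · exact absurd hd (hH.index r hr (near_mem hc h))
    · exact h
  have hq1 : 1 ≤ q := by omega
  have e6 : q ^ 6 + 1 = (q ^ 2 + 1) * (q ^ 4 - q ^ 2 + 1) := by
    obtain ⟨c, hc'⟩ : ∃ c, q ^ 4 = q ^ 2 + c := ⟨q ^ 4 - q ^ 2, by
      have : q ^ 2 ≤ q ^ 4 := Nat.pow_le_pow_right hq1 (by norm_num)
      omega⟩
    have e1 : q ^ 4 - q ^ 2 + 1 = c + 1 := by omega
    rw [e1]
    have e2 : q ^ 6 = q ^ 2 * q ^ 4 := by ring
    have e3 : q ^ 4 = q ^ 2 * q ^ 2 := by ring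
    rw [e2, hc']
    rw [e3] at hc'
    linarith [hc']
  have h1 : H.index ∣ q ^ 4 - q ^ 2 + 1 := by
    have h2 := H.index_dvd_card
    rw [hcard, e6] at h2
    have c0 := coprime_self (k := 12) hq1 (by norm_num) hod
    have c1 := coprime_of_od hq1 hod (k := 1) (by norm_num)
    have c6 := coprime_of_od hq1 hod (k := 6) (by norm_num)
    have c4 := coprime_of_od hq1 hod (k := 4) (by norm_num)
    rw [pow_one] at c1
    have c3 : H.index.Coprime (q ^ 3 + 1) := by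
      refine Nat.Coprime.of_dvd_right ⟨q ^ 3 - 1, ?_⟩ c6
      have := Nat.sq_sub_sq (q ^ 3) 1
      rw [one_pow, ← pow_mul] at this
      exact this
    have c2 : H.index.Coprime (q ^ 2 + 1) := by
      refine Nat.Coprime.of_dvd_right ⟨q ^ 2 - 1, ?_⟩ c4
      have := Nat.sq_sub_sq (q ^ 2) 1
      rw [one_pow, ← pow_mul] at this
      exact this
    rw [← mul_assoc] at h2
    exact (((((c0.mul_right c1).mul_right c3).mul_right c4).mul_right c2)).dvd_of_dvd_mul_left h2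
  have h2 : H.index ≤ q ^ 4 - q ^ 2 + 1 := Nat.le_of_dvd (by omega) h1
  -- the index of `B`
  have h3 : P.B.index ≤ (q ^ 2 + 1) * (q ^ 4 - q ^ 2 + 1) := by
    have h4 : P.B.relIndex Z * Z.index = P.B.index := Subgroup.relIndex_mul_index hBZ
    have h5 : P.B.relIndex Z ≤ q ^ 2 + 1 := by
      have h51 := Subgroup.relIndex_mul_relIndex P.B Z (P.parabolic {t}) hBZ hZ
      have h52 : 0 < Z.relIndex (P.parabolic {t}) := Nat.pos_of_ne_zero Subgroup.index_ne_zero_of_finite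
      calc P.B.relIndex Z ≤ P.B.relIndex Z * Z.relIndex (P.parabolic {t}) := Nat.le_mul_of_pos_right _ h52
        _ ≤ q ^ 2 + 1 := h51.trans_le hrel
    have h6 : Z.index ≤ q ^ 4 - q ^ 2 + 1 := (Nat.le_of_dvd (Nat.pos_of_ne_zero Subgroup.index_ne_zero_of_finite)
      (Subgroup.index_dvd_of_le hHZ)).trans h2
    rw [← h4]
    exact Nat.mul_le_mul h5 h6
  have h7 : (q ^ 3 + 1) * ((q + 1) * (q ^ 2 + 1)) * (q ^ 6 + 1) ≤ P.B.index := by
    have h1 : Nat.card ↥(P.B ⊓ P.N) * (P.B ⊓ P.N).relIndex P.B = Nat.card P.B := H554.RG.card_mul_relIndex' inf_le_left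
    have h3 := P.B.card_mul_index
    rw [← h1, htor, hcard] at h3
    obtain ⟨k, hk⟩ : ∃ k, q = k + 1 := ⟨q - 1, by omega⟩
    have hk1 : q - 1 = k := by omega
    have hq4 : q ^ 4 - 1 = k * ((q + 1) * (q ^ 2 + 1)) := by
      have : q ^ 4 = k * ((q + 1) * (q ^ 2 + 1)) + 1 := by rw [hk]; ring
      omega
    rw [hk1, hq4] at h3
    have h4 : (P.B ⊓ P.N).relIndex P.B * P.B.index = q ^ 12 * ((q ^ 3 + 1) * ((q + 1) * (q ^ 2 + 1)) * (q ^ 6 + 1)) := by
      have h5 : k ^ 2 * ((P.B ⊓ P.N).relIndex P.B * P.B.index) =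
          k ^ 2 * (q ^ 12 * ((q ^ 3 + 1) * ((q + 1) * (q ^ 2 + 1)) * (q ^ 6 + 1))) := by
        rw [← mul_assoc, h3]
        ring
      have hkpos : 0 < k ^ 2 := by
        have : 0 < k := by omega
        positivity
      exact Nat.eq_of_mul_eq_mul_left hkpos h5
    -- the relative index divides `q ^ 12`
    have h5 : (P.B ⊓ P.N).relIndex P.B ∣ q ^ 12 := by
      obtain ⟨e, he⟩ := IsPGroup.iff_card.mp hsp.isP
      have h6 := relIndex_dvd P hsp
      rw [he] at h6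
      obtain ⟨j, -, hj⟩ := (Nat.dvd_prime_pow Nat.prime_two).1 h6
      have h7 : Nat.Coprime ((P.B ⊓ P.N).relIndex P.B) ((q ^ 3 + 1) * ((q + 1) * (q ^ 2 + 1)) * (q ^ 6 + 1)) := by
        rw [hj]
        refine Nat.Coprime.pow_left _ ((Nat.Prime.coprime_iff_not_dvd Nat.prime_two).2 ?_)
        simp only [Nat.prime_two.dvd_mul]
        have h1 := heven.trans (dvd_pow_self q (n := 2) (by norm_num))
        have h3 := heven.trans (dvd_pow_self q (n := 3) (by norm_num))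
        have h6 := heven.trans (dvd_pow_self q (n := 6) (by norm_num))
        omega
      exact h7.dvd_of_dvd_mul_right (h4 ▸ dvd_mul_right _ _)
    have h6 : (P.B ⊓ P.N).relIndex P.B ≤ q ^ 12 := Nat.le_of_dvd (by positivity) h5
    have h7 : 0 < q ^ 12 := by positivity
    by_contra hlt
    push Not at hlt
    have h8 : (P.B ⊓ P.N).relIndex P.B * P.B.index < q ^ 12 * ((q ^ 3 + 1) * ((q + 1) * (q ^ 2 + 1)) * (q ^ 6 + 1)) :=
      (Nat.mul_le_mul_right _ h6).trans_lt (Nat.mul_lt_mul_of_pos_left hlt h7)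
    exact h8.ne h4
  have h8 : 1 < (q ^ 3 + 1) * ((q + 1) * (q ^ 2 + 1)) := by
    have : 0 < q ^ 3 := by positivity
    have : 0 < (q + 1) * (q ^ 2 + 1) := by positivity
    nlinarith
  rw [← e6] at h3
  have h9 : 0 < q ^ 6 + 1 := by positivity
  nlinarith

open Cfsg.Agent.H554.LieSz in
/-- **`²G₂(q)`, `q ≥ 27`.** -/
theorem hc_Ree {K : Type*} [Field K] [Fintype K] {m : ℕ} (hm : 1 ≤ m) (hK : Fintype.card K = 3 ^ (2 * m + 1)) {σ : Set ℕ}
    (hc : HC ↥(twistedG2 K (3 ^ m)) σ) : False := by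
  obtain ⟨hs, hna⟩ := Cfsg.Agent.S1073.result hm hK
  have hcard := Cfsg.Agent.S1069.result hK
  obtain ⟨U, h, n, D⟩ := Cfsg.Agent.ChevalleyStructure.Ree.Data.exists_data hK
  have hfin : Finite ↥(twistedG2 K (3 ^ m)) := inferInstance
  have hp3 : Fact (Nat.Prime 3) := ⟨Nat.prime_three⟩
  have hsp := ReeSplit.split hK D
  set P := ReeSplit.bnPair D with hP
  set q := 3 ^ (2 * m + 1) with hq
  have hq27 : 27 ≤ q := by
    calc 27 = 3 ^ 3 := by norm_num
      _ ≤ 3 ^ (2 * m + 1) := Nat.pow_le_pow_right (by norm_num) (by omega)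
  have hodd : ¬ 2 ∣ q := by
    intro h2
    have := Nat.prime_two.dvd_of_dvd_pow h2
    norm_num at this
  have hNK : Nat.card K = q := by rw [Nat.card_eq_fintype_card, hK]
  have htor : Nat.card ↥(P.B ⊓ P.N) = q - 1 := by
    have h1 : ∀ a : Kˣ, h a ∈ P.B ⊓ P.N := fun a => ⟨ReeSplit.h_mem_bSub D a, Or.inl ⟨a, rfl⟩⟩
    rw [← hNK, ← Nat.card_units]
    symm
    refine Nat.card_congr (Equiv.ofBijective (fun a : Kˣ => (⟨h a, h1 a⟩ : ↥(P.B ⊓ P.N))) ⟨?_, ?_⟩)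
    · intro a b e
      exact ReeSplit.h_inj D (congrArg Subtype.val e)
    · rintro ⟨g, hg⟩
      obtain ⟨a, rfl⟩ := ReeSplit.mem_inf D hg.1 hg.2
      exact ⟨a, rfl⟩
  have hidx2 : 2 ∣ P.B.index := by
    have h1 : Nat.card ↥(P.B ⊓ P.N) * (P.B ⊓ P.N).relIndex P.B = Nat.card P.B := H554.RG.card_mul_relIndex' inf_le_left
    have h2 : ¬ 2 ∣ (P.B ⊓ P.N).relIndex P.B := by
      intro h3
      have h4 := h3.trans (relIndex_dvd P hsp)
      obtain ⟨e, he⟩ := IsPGroup.iff_card.mp hsp.isP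
      rw [he] at h4
      have := Nat.prime_two.dvd_of_dvd_pow h4
      norm_num at this
    have h3 := P.B.card_mul_index
    rw [← h1, htor, hcard] at h3
    have h4 : (P.B ⊓ P.N).relIndex P.B * P.B.index = q ^ 3 * (q ^ 3 + 1) := by
      have h5 : (q - 1) * ((P.B ⊓ P.N).relIndex P.B * P.B.index) = (q - 1) * (q ^ 3 * (q ^ 3 + 1)) := by
        rw [← mul_assoc, h3]
        ring
      exact Nat.eq_of_mul_eq_mul_left (by omega) h5
    refine two_dvd_of_odd_mul h4 h2 (Dvd.dvd.mul_left ?_ _)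
    have h6 : ¬ 2 ∣ q ^ 3 := fun h7 => hodd (Nat.prime_two.dvd_of_dvd_pow h7)
    omega
  -- `3 ∈ σ`
  have h3 : H94.PG.Adj ↥(twistedG2 K (3 ^ m)) 3 2 := by
    obtain ⟨a, haH, ha1, ha2⟩ := Cfsg.Agent.S1157.exists_involution hK
    obtain ⟨⟨f⟩, -⟩ := Cfsg.Agent.S1152.result hK a haH ha1 ha2
    have hao : orderOf a = 2 := orderOf_eq_prime (by rw [sq, ha2]) ha1
    have h4 : 3 ∣ Nat.card ↥(centralizer ({a} : Set ↥(twistedG2 K (3 ^ m)))) := by
      rw [Nat.card_congr f.toEquiv, Nat.card_prod]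
      refine Dvd.dvd.mul_left ?_ _
      have h5 := Cfsg.Agent.ClassicalGeometry.PSL2Basic.card_PSL2_gcd (F := K)
      have h6 : 3 ∣ Nat.card (Matrix.ProjectiveSpecialLinearGroup (Fin 2) K) * Nat.gcd 2 (Fintype.card K - 1) := by
        rw [h5, hK, hq]
        exact (dvd_pow_self 3 (by omega)).mul_right _
      rcases Nat.prime_three.dvd_mul.1 h6 with h7 | h7
      · exact h7
      · have h8 := h7.trans (Nat.gcd_dvd_left _ _)
        norm_num at h8
    obtain ⟨b, hb⟩ := exists_prime_orderOf_dvd_card' 3 h4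
    refine ⟨Nat.prime_three, Nat.prime_two, by norm_num, b.1, a, ?_, hao, ?_⟩
    · exact (Subgroup.orderOf_coe b).trans hb
    · exact Subgroup.mem_centralizer_singleton_iff.1 b.2
  obtain ⟨H0, hH0⟩ := hc.exists_hall (two_dvd_of_adj h3)
  have hne : P.S.Nonempty := ⟨n, rfl⟩
  obtain ⟨H, Z, hH, hHZ, hBZ, s, hs', hsZ⟩ := exists_over hne hsp hc (adj_mem hc h3) hH0
  have hZt : Z ≠ ⊤ := by
    rintro rfl
    exact hsZ (Subgroup.mem_top _)
  have hZB : Z = P.B := eq_B_of_rank_one (w := n) rfl hsp (ReeSplit.bruhat' D) hBZ hZt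
  rw [hZB] at hHZ
  exact hc.even_card hH (hidx2.trans (Subgroup.index_dvd_of_le hHZ))

end Cfsg.Agent.H581.RowsH
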