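import Mathlib
import Cfsg.Agent.H581.HCRed
import Cfsg.Agent.H581.RowsC
import Cfsg.Agent.H581.RowsD
import Cfsg.Agent.H581.RowsE
import Cfsg.Agent.H581.RowsF
import Cfsg.Agent.H581.RowsG
import Cfsg.Agent.H581.RowsH
import Cfsg.Agent.H937.HCAlt
import Cfsg.Agent.H783.HallPSL
import Cfsg.Agent.H579.HCOmega
import Cfsg.Agent.S0252
import Cfsg.Agent.S0254
import Cfsg.Agent.S0255
import Cfsg.Prelude.Def_Classification2

/-!
# Known simple groups with a Hall covering (helper581)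
-/

set_option autoImplicit false
set_option linter.unusedSectionVars false

namespace Cfsg.Agent.H581

open Cfsg

/-- the groups of the list -/
def Lst (S : Type*) [Group S] : Prop :=
  (∃ (F : Type) (_ : Field F) (_ : Fintype F), 4 ≤ Fintype.card F ∧
      Nonempty (S ≃* Matrix.ProjectiveSpecialLinearGroup (Fin 2) F)) ∨
    (∃ (F : Type) (_ : Field F) (_ : Fintype F), 3 ≤ Fintype.card F ∧
      (Fintype.card F = 4 ∨ ¬ 3 ∣ Fintype.card F - 1) ∧
      Nonempty (S ≃* Matrix.ProjectiveSpecialLinearGroup (Fin 3) F)) ∨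
    Lie.IsoSuzuki S ∨ Nonempty (S ≃* alternatingGroup (Fin 7)) ∨ Spor.IsoM11 S ∨ Spor.IsoM22 S

/-- **The known simple groups with a Hall covering**, up to the sporadic groups and the Tits group. -/
theorem lst_of_hc {S : Type*} [Group S] [Finite S] [IsSimpleGroup S] (hna : ¬ IsMulCommutative S) {σ : Set ℕ}
    (hc : HC S σ) (hsp : IsSporadicGroup S → Spor.IsoM11 S ∨ Spor.IsoM22 S) (htits : Lie.IsoTits S → False)
    (hk : IsKnownSimple' S) : Lst S := by
  rcases hk with h | h | h | h | h | h | h | h | h | h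
  · exfalso
    apply hna
    have h' : (Nat.card S).Prime := h
    have := Fact.mk h'
    have hcyc : IsCyclic S := isCyclic_of_prime_card (p := Nat.card S) rfl
    infer_instance
  · obtain ⟨n, hn, ⟨e⟩⟩ := H937.HCAlt.hc_alt hc h
    rcases hn with rfl | rfl | rfl
    · have hF : Fintype (GaloisField 2 2) := Fintype.ofFinite _
      have h4 : Fintype.card (GaloisField 2 2) = 4 := by
        rw [← Nat.card_eq_fintype_card, GaloisField.card 2 2 (by norm_num)]
        norm_num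
      obtain ⟨f⟩ := Cfsg.Agent.S0252.result (F := GaloisField 2 2) h4
      exact Or.inl ⟨GaloisField 2 2, inferInstance, hF, h4.ge, ⟨e.trans f.symm⟩⟩
    · have hF : Fintype (GaloisField 3 2) := Fintype.ofFinite _
      have h9 : Fintype.card (GaloisField 3 2) = 9 := by
        rw [← Nat.card_eq_fintype_card, GaloisField.card 3 2 (by norm_num)]
        norm_num
      obtain ⟨f⟩ := Cfsg.Agent.S0254.result (F := GaloisField 3 2) h9
      exact Or.inl ⟨GaloisField 3 2, inferInstance, hF, by omega, ⟨e.trans f.symm⟩⟩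
    · exact Or.inr (Or.inr (Or.inr (Or.inl ⟨e⟩)))
  · obtain ⟨F, _, _, n, hn, h4, ⟨e⟩⟩ := h
    have hF : Nat.card F = Fintype.card F := Nat.card_eq_fintype_card
    rcases Nat.lt_or_ge n 3 with h3 | h3
    · obtain rfl : n = 2 := by omega
      exact Or.inl ⟨F, _, _, h4 rfl, ⟨e⟩⟩
    rcases Nat.lt_or_ge n 4 with h5 | h5
    · obtain rfl : n = 3 := by omega
      by_cases h6 : Fintype.card F = 4 ∨ ¬ 3 ∣ Fintype.card F - 1
      · rcases Nat.lt_or_ge (Fintype.card F) 3 with h7 | h7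
        · have h8 : Fintype.card F = 2 := by
            have := Fintype.one_lt_card (α := F)
            omega
          have : Fact (Nat.Prime 7) := ⟨by norm_num⟩
          obtain ⟨f⟩ := Cfsg.Agent.S0255.result (F := ZMod 7) (K := F) (ZMod.card 7) h8
          exact Or.inl ⟨ZMod 7, inferInstance, inferInstance, by rw [ZMod.card]; norm_num, ⟨e.trans f.symm⟩⟩
        · exact Or.inr (Or.inl ⟨F, _, _, h7, h6, ⟨e⟩⟩)
      · push Not at h6
        exact (H783.HallPSL.hc_psl_three (by rw [hF]; exact h6.2) (by rw [hF]; exact h6.1) (hc.congr e)).elim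
    · exact (H783.HallPSL.hc_psl h5 (hc.congr e)).elim
  · obtain ⟨F, _, _, m, hm, -, ⟨e⟩⟩ := h
    exact (RowsF.hc_PSp hm (hc.congr e)).elim
  · obtain ⟨F, _, _, n, q, hF, hn, hnq, ⟨e⟩⟩ := h
    exact (RowsF.hc_PSU hF hn (fun h1 h2 => hnq ⟨h1, h2⟩) (hc.congr e)).elim
  · obtain ⟨F, _, _, m, hm, hodd, ⟨e⟩⟩ := h
    refine (RowsC.hc_PO_odd ?_ hm (hc.congr e)).elim
    intro h0
    have : CharP F 2 := CharTwo.of_one_ne_zero_of_two_eq_zero one_ne_zero h0
    have h1 := FiniteField.even_card_of_char_two (F := F) (ringChar.eq F 2)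
    rw [Nat.odd_iff] at hodd
    omega
  · obtain ⟨F, _, _, m, hm, ⟨e⟩⟩ := h
    by_cases h0 : (2 : F) = 0
    · have : CharP F 2 := CharTwo.of_one_ne_zero_of_two_eq_zero one_ne_zero h0
      exact (H579.hc_omega_even_plus hm (hc.congr e)).elim
    · exact (RowsD.hc_PO_plus_odd h0 hm (hc.congr e)).elim
  · obtain ⟨F, _, _, m, a, b, hm, hab, ⟨e⟩⟩ := h
    by_cases h0 : (2 : F) = 0
    · have : CharP F 2 := CharTwo.of_one_ne_zero_of_two_eq_zero one_ne_zero h0
      exact (H579.hc_omega_even_minus hm hab (hc.congr e)).elim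
    · exact (RowsC.hc_PO_minus_odd h0 a b hab (by omega) (hc.congr e)).elim
  · rcases h with h | h | h | h | h | h | h | h | h | h | h
    · obtain ⟨F, _, _, -, ⟨e⟩⟩ := h
      exact (RowsG.hc_G2 F (hc.congr e)).elim
    · obtain ⟨F, _, _, ⟨e⟩⟩ := h
      exact (RowsE.hc_F4 F (hc.congr e)).elim
    · obtain ⟨F, _, _, ⟨e⟩⟩ := h
      have : IsSimpleGroup ↥(Lie.chevE6.group F) := (MulEquiv.isSimpleGroup_congr e).1 inferInstance
      exact (RowsG.hc_E6 F this (hc.congr e)).elim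
    · obtain ⟨F, _, _, ⟨e⟩⟩ := h
      exact (RowsE.hc_E7 F (hc.congr e)).elim
    · obtain ⟨F, _, _, ⟨e⟩⟩ := h
      exact (RowsE.hc_E8 F (hc.congr e)).elim
    · obtain ⟨K, _, _, q, hq, hK, ⟨e⟩⟩ := h
      exact (RowsG.hc_2E6 hq hK (hc.congr e)).elim
    · obtain ⟨K, _, _, q, hq, hK, ⟨e⟩⟩ := h
      exact (RowsG.hc_3D4 hq hK (hc.congr e)).elim
    · exact Or.inr (Or.inr (Or.inl h))
    · obtain ⟨K, _, _, m, hm, hK, ⟨e⟩⟩ := h
      exact (RowsH.hc_Ree hm hK (hc.congr e)).elim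
    · obtain ⟨K, _, _, m, hm, hK, ⟨e⟩⟩ := h
      exact (RowsH.hc_2F4 hm hK (hc.congr e)).elim
    · exact (htits h).elim
  · rcases hsp h with h | h
    · exact Or.inr (Or.inr (Or.inr (Or.inr (Or.inl h))))
    · exact Or.inr (Or.inr (Or.inr (Or.inr (Or.inr h))))

end Cfsg.Agent.H581
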