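import Mathlib
import Cfsg.Agent.H581.HCList
import Cfsg.Agent.H497.HCTwoMain
import Cfsg.Agent.H937.HCPsl3D
import Cfsg.Agent.H937.HCSz
import Cfsg.Agent.H937.HCM22
import Cfsg.Agent.UGT.End.MEleven
import Cfsg.Agent.StandardComponent.AltAut

/-!
# Groups with a Hall covering: almost simple groups and the reduction (helper581)
-/

set_option autoImplicit false
set_option linter.unusedSectionVars false

namespace Cfsg.Agent.H581

open Cfsg Subgroup

/-- the conclusion for the quotient by the Fitting subgroup -/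
def Concl (X : Type*) [Group X] : Prop :=
  (∃ (F : Type) (_ : Field F) (_ : Fintype F), 4 ≤ Fintype.card F ∧
      Nonempty (X ≃* Matrix.ProjectiveSpecialLinearGroup (Fin 2) F)) ∨
    (∃ (F : Type) (_ : Field F) (_ : Fintype F), (Fintype.card F = 4 ∨ ¬ 3 ∣ Fintype.card F - 1) ∧
      Nonempty (X ≃* Matrix.ProjectiveSpecialLinearGroup (Fin 3) F)) ∨
    Lie.IsoSuzuki X ∨ Nonempty (X ≃* alternatingGroup (Fin 7)) ∨ Nonempty (X ≃* Spor.M11) ∨ Nonempty (X ≃* Spor.M22) ∨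
    (∃ (N : Subgroup X) (F : Type) (_ : Field F) (_ : Fintype F) (p f : ℕ), p.Prime ∧ p ≠ 2 ∧ 1 ≤ f ∧
       Fintype.card F = p ^ (2 * f) ∧ N.Normal ∧ N.index = 2 ∧ Nonempty (N ≃* Matrix.ProjectiveSpecialLinearGroup (Fin 2) F) ∧
       ∀ x : X, x ∉ N → orderOf x ≠ 2)

variable {X : Type*} [Group X] [Finite X] {σ : Set ℕ}

theorem eq_one_of_conj {S : Subgroup X} [S.Normal] (hC : centralizer (S : Set X) = ⊥) {x : X}
    (h : ∀ s : S, MulAut.conjNormal x s = s) : x = 1 := by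
  have h1 : x ∈ centralizer (S : Set X) := by
    rw [Subgroup.mem_centralizer_iff]
    intro s hs
    have h2 := congrArg Subtype.val (h ⟨s, hs⟩)
    rw [MulAut.conjNormal_apply, mul_inv_eq_iff_eq_mul] at h2
    exact h2.symm
  rwa [hC, Subgroup.mem_bot] at h1

theorem not_alt7 {S : Subgroup X} [S.Normal] (hC : centralizer (S : Set X) = ⊥) (hne : S ≠ ⊤) (hc : HC X σ)
    (e : S ≃* alternatingGroup (Fin 7)) : False := by
  obtain ⟨ψ, hψ⟩ := StandardComponent.AltAut.exists_autHom 7 le_rfl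
  let Ψ : X →* Equiv.Perm (Fin 7) :=
    ψ.comp ((MulAut.congr e).toMonoidHom.comp (MulAut.conjNormal : X →* MulAut ↥S))
  have hinj : Function.Injective Ψ := by
    rw [injective_iff_map_eq_one]
    intro x hx
    refine eq_one_of_conj hC fun s => ?_
    have h1 := hψ (MulAut.congr e (MulAut.conjNormal x)) (e s)
    have h2 : ψ (MulAut.congr e (MulAut.conjNormal x)) = 1 := hx
    rw [h2, one_mul, inv_one, mul_one] at h1
    have h3 : (MulAut.congr e (MulAut.conjNormal x)) (e s) = e s := Subtype.ext h1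
    have h4 : e (MulAut.conjNormal x (e.symm (e s))) = e s := h3
    rw [e.symm_apply_apply] at h4
    exact e.injective h4
  have h1 : Nat.card (Equiv.Perm (Fin 7)) ≤ Nat.card X := by
    have h2 : Nat.card S = 2520 := by
      rw [Nat.card_congr e.toEquiv, nat_card_alternatingGroup, Nat.card_fin]
      rfl
    have h3 : 2 ≤ S.index := by
      have h4 : S.index ≠ 0 := Subgroup.index_ne_zero_of_finite
      have h5 : S.index ≠ 1 := fun h => hne (Subgroup.index_eq_one.1 h)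
      omega
    have h6 := S.card_mul_index
    rw [Nat.card_perm, Nat.card_fin, ← h6, h2, show Nat.factorial 7 = 2520 * 2 from rfl]
    exact Nat.mul_le_mul_left _ h3
  have hbij : Function.Bijective Ψ := Function.Injective.bijective_of_nat_card_le hinj h1
  exact H937.HCAlt.hc_sym_seven hc (MulEquiv.ofBijective Ψ hbij)

theorem not_m11 {S : Subgroup X} [S.Normal] (hC : centralizer (S : Set X) = ⊥) (hne : S ≠ ⊤)
    (h : Spor.IsoM11 S) : False := by
  apply hne
  rw [eq_top_iff]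
  intro x _
  obtain ⟨g, hg⟩ := UGT.End.MEleven.inner h (MulAut.conjNormal x)
  have h1 : (g : X)⁻¹ * x = 1 := by
    refine eq_one_of_conj hC fun s => ?_
    rw [map_mul, hg, map_inv, MulAut.mul_apply, MulAut.inv_apply, MulEquiv.symm_apply_eq]
    apply Subtype.ext
    rw [MulAut.conjNormal_apply, MulAut.conj_apply]
    rfl
  have h2 : x = g := (inv_mul_eq_one.1 h1).symm
  rw [h2]
  exact g.2

/-- **almost simple groups with a Hall covering** -/
theorem concl_of {S : Subgroup X} [S.Normal] (hC : centralizer (S : Set X) = ⊥)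
    (hσ : ∀ r : ℕ, r.Prime → r ∣ S.index → r ∈ σ) (hc : HC X σ) (hl : Lst S) : Concl X := by
  by_cases hS : S = ⊤
  · have e : X ≃* S := (MulEquiv.subgroupCongr hS |>.trans Subgroup.topEquiv).symm
    rcases hl with ⟨F, i1, i2, h4, ⟨f⟩⟩ | ⟨F, i1, i2, h3, h4, ⟨f⟩⟩ | h | ⟨⟨f⟩⟩ | ⟨⟨f⟩⟩ | ⟨⟨f⟩⟩
    · exact Or.inl ⟨F, i1, i2, h4, ⟨e.trans f⟩⟩
    · exact Or.inr (Or.inl ⟨F, i1, i2, h4, ⟨e.trans f⟩⟩)
    · obtain ⟨F, i1, i2, m, hm, hF, ⟨f⟩⟩ := h
      exact Or.inr (Or.inr (Or.inl ⟨F, i1, i2, m, hm, hF, ⟨e.trans f⟩⟩))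
    · exact Or.inr (Or.inr (Or.inr (Or.inl ⟨e.trans f⟩)))
    · exact Or.inr (Or.inr (Or.inr (Or.inr (Or.inl ⟨e.trans f⟩))))
    · exact Or.inr (Or.inr (Or.inr (Or.inr (Or.inr (Or.inl ⟨e.trans f⟩)))))
  · rcases hl with ⟨F, i1, i2, h4, ⟨f⟩⟩ | ⟨F, i1, i2, h3, h4, ⟨f⟩⟩ | h | ⟨⟨f⟩⟩ | h | h
    · obtain ⟨p, k, hp, hp2, hk, hF, hi, hx⟩ := H497.HCTwo.psl_two S hC f
        (by rw [Nat.card_eq_fintype_card]; exact h4) hS hσ hc
      rw [Nat.card_eq_fintype_card] at hF
      exact Or.inr (Or.inr (Or.inr (Or.inr (Or.inr (Or.inr ⟨S, F, i1, i2, p, k, hp, hp2, hk, hF, inferInstance, hi,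
        ⟨f⟩, hx⟩)))))
    · exact (H937.HCPsl3.not_psl3 hC hS hσ hc (by rw [Nat.card_eq_fintype_card]; exact h3)
        (by rw [Nat.card_eq_fintype_card]; exact h4) f).elim
    · exact (H937.HCSz.not_suzuki hS hσ hc h).elim
    · exact (not_alt7 hC hS hc f).elim
    · exact (not_m11 hC hS h).elim
    · exact (H937.HCM22.not_M22 hC hS hσ hc h).elim

end Cfsg.Agent.H581
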