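import Mathlib
import Cfsg.Agent.H581.HCMain

/-!
# Groups with a Hall covering: the reduction to almost simple groups (helper581)
-/

set_option autoImplicit false
set_option linter.unusedSectionVars false

namespace Cfsg.Agent.H581

open Cfsg Subgroup

universe u

theorem HC.reach {G : Type*} [Group G] {σ : Set ℕ} (h : HC G σ) {p : ℕ}
    (hp : Relation.ReflTransGen (fun a b : ℕ => a.Prime ∧ b.Prime ∧ a ≠ b ∧ a ∣ Nat.card G ∧ b ∣ Nat.card G ∧
      ∃ g : G, orderOf g = a * b) 2 p) : p ∈ σ := by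
  induction hp with
  | refl => exact h.two
  | tail _ hR ih =>
    obtain ⟨ha, hb, -, -, -, g, hg⟩ := hR
    exact h.iso g _ _ ha hb (by rw [hg]; exact dvd_mul_right _ _) (by rw [hg]; exact dvd_mul_left _ _) ih

/-- the quotient by the Fitting subgroup -/
theorem main {G : Type u} [Group G] [Finite G]
    (hcfsg : ∀ (S : Type u) [Group S] [Finite S] [IsSimpleGroup S], Cfsg.IsKnownSimple' S)
    (hsp : ∀ (S : Type u) [Group S] [Finite S] [IsSimpleGroup S] (σ : Set ℕ), HC S σ →
      (IsSporadicGroup S → Spor.IsoM11 S ∨ Spor.IsoM22 S) ∧ (Lie.IsoTits S → False))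
    {σ : Set ℕ} (hc : HC G σ) {N M : Subgroup G} [N.Normal] [M.Normal] (hNM : N ≤ M)
    (hN : ∀ p : ℕ, p.Prime → p ∣ Nat.card ↥N → p ∈ σ) (hM : ∀ p : ℕ, p.Prime → p ∣ Nat.card (G ⧸ M) → p ∈ σ)
    (hs : IsSimpleGroup (↥M ⧸ N.subgroupOf M)) (hna : ¬ IsMulCommutative (↥M ⧸ N.subgroupOf M)) :
    Cfsg.fittingSubgroup G = N ∧ Concl (G ⧸ N) := by
  set S : Subgroup (G ⧸ N) := M.map (QuotientGroup.mk' N) with hS
  have hSn : S.Normal := Subgroup.Normal.map inferInstance _ (QuotientGroup.mk'_surjective N)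
  -- the isomorphism
  let f : M →* S := (QuotientGroup.mk' N).subgroupMap M
  have hf : Function.Surjective f := MonoidHom.subgroupMap_surjective _ _
  have hker : f.ker = N.subgroupOf M := by
    ext x
    rw [MonoidHom.mem_ker, Subgroup.mem_subgroupOf, ← QuotientGroup.eq_one_iff]
    exact Subtype.ext_iff
  have e : (↥M ⧸ N.subgroupOf M) ≃* S :=
    (QuotientGroup.quotientMulEquivOfEq hker.symm).trans (QuotientGroup.quotientKerEquivOfSurjective f hf)
  have hs' : IsSimpleGroup S := (MulEquiv.isSimpleGroup_congr e).1 hs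
  have hna' : ¬ IsMulCommutative S := by
    intro h
    apply hna
    refine ⟨⟨fun a b => e.injective ?_⟩⟩
    rw [map_mul, map_mul]
    exact h.is_comm.comm _ _
  have hidx : S.index = Nat.card (G ⧸ M) := by
    rw [hS, Subgroup.index_map_eq M (QuotientGroup.mk'_surjective N) (by rw [QuotientGroup.ker_mk']; exact hNM)]
    rfl
  have hSσ : ∀ r : ℕ, r.Prime → r ∣ S.index → r ∈ σ := fun r hr hd => hM r hr (by rwa [hidx] at hd)
  have hX : HC (G ⧸ N) σ := hc.quot hN
  have hSc : HC S σ := hX.sub hSσ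
  have hC : centralizer (S : Set (G ⧸ N)) = ⊥ := by
    refine hX.centralizer_eq_bot hSσ ?_
    have hcen : center S = ⊥ := by
      refine (hs'.eq_bot_or_eq_top_of_normal _ inferInstance).resolve_right fun h => hna' ?_
      refine ⟨⟨fun a b => ?_⟩⟩
      have h6 : a ∈ center S := by rw [h]; exact mem_top _
      exact (Subgroup.mem_center_iff.1 h6 b).symm
    rw [Subgroup.eq_bot_iff_forall]
    rintro x ⟨hxS, hxC⟩
    have h1 : (⟨x, hxS⟩ : S) ∈ center S := by
      rw [Subgroup.mem_center_iff]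
      intro y
      exact Subtype.ext ((Subgroup.mem_centralizer_iff.1 hxC) y y.2)
    rw [hcen, Subgroup.mem_bot] at h1
    exact congrArg Subtype.val h1
  refine ⟨fitting_eq (hc.nilpotent hN) hs' hna' hC, ?_⟩
  exact concl_of hC hSσ hX (lst_of_hc hna' hSc (hsp S σ hSc).1 (hsp S σ hSc).2 (hcfsg S))

end Cfsg.Agent.H581
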