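import Cfsg.Agent.H547.PP.Engine

/-!
# Subgroups of a given index: the engine of helper547 for an arbitrary index (helper581)

`not_idx`: `G` finite of order `n`, `x` of prime order `r ∥ n` with `|C(x)| = r`, `r ∤ i`; if `chkI n l r i O` then no
subgroup of `G` has index `i`.
-/

set_option autoImplicit false

namespace Cfsg.Agent.H581.IdxEng

open Subgroup Cfsg.Agent.H702.TF Cfsg.Agent.OrdDiv Cfsg.Agent.H547.SelfCent Cfsg.Agent.H547.PP

universe u

theorem not_idx (T : OrderTable.{u})
    (hS : ∀ (X : Type u) [Group X] [Finite X] [IsSimpleGroup X], Cfsg.IsKnownSimple' X)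
    {G : Type u} [Group G] [Finite G] {r n : ℕ} (hr : r.Prime) (hr2 : r ≠ 2) (hn : Nat.card G = n)
    (hsq : ¬ r * r ∣ n) {l : List (ℕ × ℕ)} (hv : valid l n = true) {x : G} (hx : orderOf x = r)
    (hC : Nat.card (centralizer ({x} : Set G)) = r) {O : List ℕ} (hO : chkO n l r O = true) {i : ℕ}
    (hri : ¬ r ∣ i) (hchk : chkI n l r i O = true) (H : Subgroup G) (hH : H.index = i) : False := by
  classical
  have hrf : Fact r.Prime := ⟨hr⟩
  subst hn
  have hcH := card_mul_index H
  rw [hH] at hcH
  have hrG : r ∣ Nat.card G := by rw [← hx]; exact orderOf_dvd_natCard x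
  have hrH : r ∣ Nat.card H := by
    rw [← hcH] at hrG
    rcases (Nat.Prime.dvd_mul hr).1 hrG with h | h
    · exact h
    · exact absurd h hri
  obtain ⟨y, hy⟩ := exists_prime_orderOf_dvd_card' (G := H) r hrH
  have hyG : orderOf (y : G) = r := by rw [orderOf_coe, hy]
  have hCG : Nat.card (centralizer ({(y : G)} : Set G)) = r := by
    rw [card_cent_eq hr hsq hyG hx, hC]
  have hsqH : ¬ r * r ∣ Nat.card H := fun h => hsq (h.trans (card_subgroup_dvd_card H))
  have hCH : Nat.card (centralizer ({y} : Set H)) = r := by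
    apply le_antisymm
    · have h1 : (centralizer ({y} : Set H)).map H.subtype ≤ centralizer ({(y : G)} : Set G) := by
        rintro _ ⟨c, hc, rfl⟩
        rw [mem_centralizer_singleton_iff]
        exact congrArg Subtype.val (mem_centralizer_singleton_iff.1 hc)
      have h2 := Nat.le_of_dvd Nat.card_pos (card_dvd_of_le h1)
      rwa [card_map_of_injective H.subtype_injective, hCG] at h2
    · have h1 : zpowers y ≤ centralizer ({y} : Set H) := by
        rw [zpowers_le, mem_centralizer_singleton_iff]
      have h2 := Nat.le_of_dvd Nat.card_pos (card_dvd_of_le h1)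
      rwa [Nat.card_zpowers, hy] at h2
  have hIG := iso_of hr hr2 hsq hyG hCG
  have hIH := iso_of hr hr2 hsqH hy hCH
  obtain ⟨e, w, he, hw, hws, hcase⟩ := struct hIH hr (by rw [Nat.card_zpowers, hy])
  obtain ⟨eG, -, -, -, heG, -⟩ := arith hr hyG hsq
  rw [hCG] at heG
  have hmodG := norm_mod hr hsq hyG hCG heG
  have hmodH := norm_mod hr hsqH hy hCH he
  have hdvd : e ∣ eG := by
    have h1 := card_dvd_of_le (normalizer_map_le y)
    rw [card_map_of_injective H.subtype_injective, he, heG] at h1
    exact Nat.dvd_of_mul_dvd_mul_left hr.pos h1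
  have he0 : 0 < e := by
    rcases Nat.eq_zero_or_pos e with h | h
    · rw [h, mul_zero] at he
      exact absurd he Nat.card_pos.ne'
    · exact h
  -- the check
  have hp0 : 0 < i := by
    rcases Nat.eq_zero_or_pos i with h | h
    · rw [h, mul_zero] at hcH
      exact absurd hcH.symm Nat.card_pos.ne'
    · exact h
  have hdiv : Nat.card G / i = Nat.card H := by
    rw [← hcH]
    exact Nat.mul_div_cancel _ hp0
  have h2 := hchk
  unfold chkI at h2
  simp only [hdiv] at h2
  rw [hmodG, hmodH, Bool.or_eq_true] at h2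
  rcases h2 with h2 | h2
  · rw [Nat.mod_eq_zero_of_dvd hdvd] at h2
    exact absurd h2 (by decide)
  rw [Bool.and_eq_true] at h2
  obtain ⟨hsol, hsim⟩ := h2
  have hnd := not_dead hv hr.one_lt hw hws
  rcases hcase with hcase | ⟨S, hSs, hSna, hSr, d, hde, hSd⟩
  · have h3 : Nat.card H / (r * e) = w := by
      rw [hcase]
      exact Nat.mul_div_cancel _ (Nat.mul_pos hr.pos he0)
    have h4 : Nat.card H % (r * e) = 0 := by
      apply Nat.mod_eq_zero_of_dvd
      rw [hcase]
      exact Dvd.intro_left _ rfl
    rw [h3, h4, hnd] at hsol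
    exact absurd hsol (by decide)
  · have hSk := hS S
    have hdS : Nat.card S ∣ Nat.card G := by
      rw [← hcH, hSd]
      refine Dvd.dvd.mul_right ?_ _
      refine Dvd.dvd.mul_left ?_ _
      exact Dvd.intro _ rfl
    obtain ⟨g, hg, -, hgc⟩ := exists_good T hSk hSna hv hdS
    unfold chkO at hO
    rw [List.all_eq_true] at hO
    have h3 := hO g hg
    rw [Bool.or_eq_true] at h3
    rcases h3 with h3 | h3
    · rw [← hgc, Nat.mod_eq_zero_of_dvd hSr] at h3
      exact absurd h3 (by decide)
    rw [List.any_eq_true] at h3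
    obtain ⟨o, ho, h3⟩ := h3
    have h4 : ordN g = o := Nat.eq_of_beq_eq_true h3
    rw [List.all_eq_true] at hsim
    have h5 := hsim o ho
    rw [List.all_eq_true] at h5
    have hd0 : 0 < d := Nat.pos_of_dvd_of_pos hde he0
    have h6 := h5 d (List.mem_range.2 (by have := Nat.le_of_dvd he0 hde; omega))
    rw [Bool.or_eq_true, Bool.or_eq_true, Bool.or_eq_true] at h6
    rcases h6 with h6 | h6 | h6 | h6
    · have := Nat.eq_of_beq_eq_true h6
      omega
    · rw [Nat.mod_eq_zero_of_dvd hde] at h6
      exact absurd h6 (by decide)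
    · rw [← h4, ← hgc] at h6
      have h7 : Nat.card H % (Nat.card S * d) = 0 := by
        apply Nat.mod_eq_zero_of_dvd
        rw [hSd]
        exact Dvd.intro_left _ rfl
      rw [h7] at h6
      exact absurd h6 (by decide)
    · rw [← h4, ← hgc] at h6
      have h7 : Nat.card H / (Nat.card S * d) = w := by
        rw [hSd]
        exact Nat.mul_div_cancel _ (Nat.mul_pos Nat.card_pos hd0)
      rw [h7, hnd] at h6
      exact absurd h6 (by decide)

end Cfsg.Agent.H581.IdxEng
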