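import Mathlib

/-!
# Sims' shift argument: the chain of subgroups

`exists_chain`: let `P` be a finite subgroup of `G` and `g ∈ G` such that `P ∩ gPg⁻¹` has index 2 in `P`, and no
non-identity subgroup of `P` is normalised by `P` and by `g`. Then `P` has order `2 ^ N` and there is a chain
`1 = T 0 < T 1 < ... < T N = P` with `T (m + 1) ∩ g T (m + 1) g⁻¹ = g (T m) g⁻¹`.
-/

set_option autoImplicit false

open Pointwise

namespace Cfsg.Agent.H581.Sims

variable {G : Type*} [Group G]

theorem div_mem_two {A C : Subgroup G} (h : A.relIndex C = 2) {x c : G} (hx : x ∈ C) (hxA : x ∉ A)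
    (hc : c ∈ C) (hcA : c ∉ A) : c * x⁻¹ ∈ A := by
  have h1 : (A.subgroupOf C).index = 2 := h
  have h2 := Subgroup.mul_mem_iff_of_index_two h1 (a := (⟨c, hc⟩ : C)) (b := (⟨x, hx⟩ : C)⁻¹)
  have h3 : (⟨c, hc⟩ : C) * (⟨x, hx⟩ : C)⁻¹ ∈ A.subgroupOf C := by
    rw [h2]
    constructor
    · intro h4
      exact absurd h4 hcA
    · intro h4
      exact absurd ((A.subgroupOf C).inv_mem_iff.1 h4) hxA
  exact h3

theorem le_normalizer_two {A C : Subgroup G} (hA : A ≤ C) (h : A.relIndex C = 2) :
    C ≤ Subgroup.normalizer (A : Set G) := by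
  have h1 : (A.subgroupOf C).index = 2 := h
  have h2 : (A.subgroupOf C).Normal := Subgroup.normal_of_index_eq_two h1
  exact (Subgroup.normal_subgroupOf_iff_le_normalizer hA).1 h2

theorem le_of_two {A C X : Subgroup G} (h : A.relIndex C = 2) (hAX : A ≤ X)
    (hX : ¬ X ⊓ C ≤ A) : C ≤ X := by
  rw [SetLike.not_le_iff_exists] at hX
  obtain ⟨x, ⟨hx1, hx2⟩, hx3⟩ := hX
  intro c hc
  by_cases hcA : c ∈ A
  · exact hAX hcA
  · have h1 := div_mem_two h hx2 hx3 hc hcA
    have h2 := X.mul_mem (hAX h1) hx1
    rwa [inv_mul_cancel_right] at h2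

theorem card_mul_relIndex {A C : Subgroup G} (hA : A ≤ C) :
    Nat.card A * A.relIndex C = Nat.card C := by
  have h := Subgroup.relIndex_mul_relIndex ⊥ A C bot_le hA
  rwa [Subgroup.relIndex_bot_left, Subgroup.relIndex_bot_left] at h

theorem relIndex_two_of_card {A C : Subgroup G} (hA : A ≤ C) {m : ℕ}
    (h1 : Nat.card A = 2 ^ m) (h2 : Nat.card C = 2 ^ (m + 1)) : A.relIndex C = 2 := by
  have h3 := card_mul_relIndex hA
  rw [h1, h2, pow_succ] at h3
  exact Nat.eq_of_mul_eq_mul_left (by positivity) h3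

theorem relIndex_conj (x : G) (A C : Subgroup G) :
    (MulAut.conj x • A).relIndex (MulAut.conj x • C) = A.relIndex C :=
  Subgroup.relIndex_pointwise_smul _ _ _

theorem card_conj (x : G) (A : Subgroup G) : Nat.card (MulAut.conj x • A : Subgroup G) = Nat.card A :=
  (Nat.card_congr (Subgroup.equivSMul (MulAut.conj x) A).toEquiv).symm

/-- The chain of subgroups obtained by intersecting `P` with its conjugates under the powers of `g⁻¹`. -/
def B (P : Subgroup G) (g : G) : ℕ → Subgroup G
  | 0 => P
  | j + 1 => B P g j ⊓ MulAut.conj g⁻¹ • B P g j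

variable {P : Subgroup G} {g : G}

theorem B_succ_le (j : ℕ) : B P g (j + 1) ≤ B P g j := inf_le_left

theorem B_succ_le' (j : ℕ) : B P g (j + 1) ≤ MulAut.conj g⁻¹ • B P g j := inf_le_right

theorem conj_inv_smul (A : Subgroup G) : MulAut.conj g • MulAut.conj g⁻¹ • A = A := by
  rw [smul_smul, ← map_mul, mul_inv_cancel, map_one, one_smul]

theorem conj_inv_smul' (A : Subgroup G) : MulAut.conj g⁻¹ • MulAut.conj g • A = A := by
  rw [smul_smul, ← map_mul, inv_mul_cancel, map_one, one_smul]

theorem conj_B_succ_le (j : ℕ) : MulAut.conj g • B P g (j + 1) ≤ B P g j := by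
  have h := Subgroup.pointwise_smul_le_pointwise_smul_iff (a := MulAut.conj g) |>.2 (B_succ_le' (P := P) (g := g) j)
  rwa [conj_inv_smul] at h

theorem B_le (j : ℕ) : B P g j ≤ P := by
  induction j with
  | zero => exact le_rfl
  | succ j ih => exact (B_succ_le j).trans ih

theorem relIndex_B_le [Finite G] (h2 : (MulAut.conj g • P).relIndex P = 2) (j : ℕ) :
    (B P g (j + 1)).relIndex (B P g j) ≤ 2 := by
  induction j with
  | zero =>
    have h3 : (B P g 1).relIndex (B P g 0) = 2 := by
      show (P ⊓ MulAut.conj g⁻¹ • P).relIndex P = 2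
      rw [inf_comm, Subgroup.inf_relIndex_right]
      have e1 := card_mul_relIndex (A := P ⊓ MulAut.conj g • P) (C := P) inf_le_left
      have e2 := card_mul_relIndex (A := MulAut.conj g⁻¹ • P ⊓ P) (C := P) inf_le_right
      rw [Subgroup.inf_relIndex_right] at e2
      rw [inf_comm, Subgroup.inf_relIndex_right, h2] at e1
      have e3 : Nat.card (MulAut.conj g⁻¹ • P ⊓ P : Subgroup G) = Nat.card (MulAut.conj g • P ⊓ P : Subgroup G) := by
        rw [← card_conj g (MulAut.conj g⁻¹ • P ⊓ P), Subgroup.smul_inf, conj_inv_smul, inf_comm]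
      rw [e3, ← e1] at e2
      exact Nat.eq_of_mul_eq_mul_left Nat.card_pos e2
    exact h3.le
  | succ j ih =>
    have h1 : (B P g (j + 2)).relIndex (B P g (j + 1)) = (MulAut.conj g⁻¹ • B P g (j + 1)).relIndex (B P g (j + 1)) := by
      show (B P g (j + 1) ⊓ MulAut.conj g⁻¹ • B P g (j + 1)).relIndex (B P g (j + 1)) = _
      rw [inf_comm, Subgroup.inf_relIndex_right]
    rw [h1]
    refine le_trans ?_ ih
    rw [← relIndex_conj g⁻¹ (B P g (j + 1)) (B P g j)]
    refine Subgroup.relIndex_le_of_le_right (B_succ_le' j) ?_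
    exact Subgroup.index_ne_zero_of_finite

/-- **The chain of subgroups.** -/
structure Chain (g : G) (N : ℕ) (T : ℕ → Subgroup G) : Prop where
  card : ∀ m ≤ N, Nat.card (T m) = 2 ^ m
  le : ∀ m < N, T m ≤ T (m + 1)
  cle : ∀ m < N, MulAut.conj g • T m ≤ T (m + 1)
  inf : ∀ m < N, T (m + 1) ⊓ MulAut.conj g • T (m + 1) ≤ MulAut.conj g • T m

theorem smul_normalizer (x : G) (A : Subgroup G) :
    MulAut.conj x • Subgroup.normalizer (A : Set G) = Subgroup.normalizer ((MulAut.conj x • A : Subgroup G) : Set G) := by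
  ext y
  rw [Subgroup.mem_pointwise_smul_iff_inv_smul_mem, ← map_inv, MulAut.smul_def, MulAut.conj_apply, inv_inv]
  simp only [Subgroup.mem_normalizer_iff, Subgroup.mem_pointwise_smul_iff_inv_smul_mem, ← map_inv,
    MulAut.smul_def, MulAut.conj_apply, inv_inv]
  constructor
  · intro h z
    have := h (x⁻¹ * z * x)
    rw [this]
    have e : x⁻¹ * y * x * (x⁻¹ * z * x) * (x⁻¹ * y * x)⁻¹ = x⁻¹ * (y * z * y⁻¹) * x := by group
    rw [e]
  · intro h z
    have := h (x * z * x⁻¹)
    have e1 : x⁻¹ * (x * z * x⁻¹) * x = z := by group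
    have e2 : x⁻¹ * (y * (x * z * x⁻¹) * y⁻¹) * x = x⁻¹ * y * x * z * (x⁻¹ * y * x)⁻¹ := by group
    rw [e1, e2] at this
    exact this

theorem B_le_normalizer [Finite G] {j : ℕ} (hj : ∀ i < j, (B P g (i + 1)).relIndex (B P g i) = 2)
    (hjj : MulAut.conj g • B P g j = B P g j) (k : ℕ) (hk : k ≤ j) :
    B P g (j - k) ≤ Subgroup.normalizer (B P g j : Set G) := by
  have hinv : MulAut.conj g⁻¹ • B P g j = B P g j := by
    conv_lhs => rw [← hjj]
    exact conj_inv_smul' _
  have hginv : MulAut.conj g⁻¹ • Subgroup.normalizer (B P g j : Set G) = Subgroup.normalizer (B P g j : Set G) := by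
    rw [smul_normalizer, hinv]
  have hg : MulAut.conj g • Subgroup.normalizer (B P g j : Set G) = Subgroup.normalizer (B P g j : Set G) := by
    rw [smul_normalizer, hjj]
  induction k with
  | zero => exact Subgroup.le_normalizer
  | succ k ih =>
    have ih := ih (by omega)
    rcases Nat.eq_zero_or_pos k with rfl | hkpos
    · have h1 : j - (0 + 1) + 1 = j := by omega
      have h2 := hj (j - (0 + 1)) (by omega)
      have h3 := B_succ_le (P := P) (g := g) (j - (0 + 1))
      rw [h1] at h2 h3
      exact le_normalizer_two h3 h2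
    · set i := j - (k + 1) with hi
      have hi1 : j - k = i + 1 := by omega
      rw [hi1] at ih
      have h2 : (B P g (i + 1)).relIndex (B P g i) = 2 := hj i (by omega)
      have h3 : (B P g (i + 2)).relIndex (B P g (i + 1)) = 2 := hj (i + 1) (by omega)
      have h4 : (B P g (i + 1)).relIndex (MulAut.conj g⁻¹ • B P g i) = 2 := by
        have e1 := card_mul_relIndex (B_succ_le' (P := P) (g := g) i)
        have e2 := card_mul_relIndex (B_succ_le (P := P) (g := g) i)
        rw [card_conj, ← e2, h2] at e1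
        exact Nat.eq_of_mul_eq_mul_left Nat.card_pos e1
      have h5 : MulAut.conj g⁻¹ • B P g i ≤ Subgroup.normalizer (B P g j : Set G) := by
        refine le_of_two h4 ih ?_
        intro hle
        have h6 : MulAut.conj g⁻¹ • B P g (i + 1) ≤ B P g (i + 1) := by
          refine le_trans (le_inf ?_ ?_) hle
          · rw [← hginv]
            exact Subgroup.pointwise_smul_le_pointwise_smul_iff.2 ih
          · exact Subgroup.pointwise_smul_le_pointwise_smul_iff.2 (B_succ_le i)
        have h7 : (B P g (i + 2)).relIndex (B P g (i + 1)) = 1 := by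
          rw [Subgroup.relIndex_eq_one]
          have h8 : MulAut.conj g⁻¹ • B P g (i + 1) = B P g (i + 1) :=
            Subgroup.eq_of_le_of_card_ge h6 (card_conj _ _).ge
          show B P g (i + 1) ≤ B P g (i + 1) ⊓ MulAut.conj g⁻¹ • B P g (i + 1)
          rw [h8, inf_idem]
        omega
      have h9 := Subgroup.pointwise_smul_le_pointwise_smul_iff (a := MulAut.conj g) |>.2 h5
      rwa [conj_inv_smul, hg] at h9

theorem relIndex_B [Finite G] (h2 : (MulAut.conj g • P).relIndex P = 2)
    (hU : ∀ X : Subgroup G, X ≤ P → P ≤ Subgroup.normalizer (X : Set G) → MulAut.conj g • X = X → X = ⊥)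
    (j : ℕ) (hj : B P g j ≠ ⊥) : (B P g (j + 1)).relIndex (B P g j) = 2 := by
  induction j using Nat.strong_induction_on with
  | _ j ih =>
    by_contra hne
    have h3 : (B P g (j + 1)).relIndex (B P g j) = 1 := by
      have h4 := relIndex_B_le h2 j
      have h5 : (B P g (j + 1)).relIndex (B P g j) ≠ 0 := Subgroup.index_ne_zero_of_finite
      omega
    have h6 : B P g j ≤ MulAut.conj g⁻¹ • B P g j := (Subgroup.relIndex_eq_one.1 h3).trans (B_succ_le' j)
    have h7 : B P g j = MulAut.conj g⁻¹ • B P g j := Subgroup.eq_of_le_of_card_ge h6 (card_conj _ _).le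
    have h8 : MulAut.conj g • B P g j = B P g j := by
      conv_lhs => rw [h7]
      exact conj_inv_smul _
    apply hj
    refine hU _ (B_le j) ?_ h8
    have h9 := B_le_normalizer (P := P) (g := g) (j := j) ?_ h8 j le_rfl
    · rwa [Nat.sub_self] at h9
    · intro i hi
      refine ih i hi ?_
      intro h10
      apply hj
      rw [eq_bot_iff, ← h10]
      exact antitone_nat_of_succ_le (f := B P g) (fun n => B_succ_le n) hi.le

/-- **Existence of the chain.** -/
theorem exists_chain [Finite G] (P : Subgroup G) (g : G) (h2 : (MulAut.conj g • P).relIndex P = 2)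
    (hU : ∀ X : Subgroup G, X ≤ P → P ≤ Subgroup.normalizer (X : Set G) → MulAut.conj g • X = X → X = ⊥) :
    ∃ (N : ℕ) (T : ℕ → Subgroup G), Chain g N T ∧ T N = P ∧ 0 < N := by
  have hex : ∃ j, B P g j = ⊥ := by
    by_contra hcon
    push Not at hcon
    have h3 : ∀ j, Nat.card (B P g j) * 2 ^ j = Nat.card P := by
      intro j
      induction j with
      | zero => rw [pow_zero, mul_one]; rfl
      | succ j ih =>
        have e := card_mul_relIndex (B_succ_le (P := P) (g := g) j)
        rw [relIndex_B h2 hU j (hcon j)] at e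
        rw [← ih, ← e, pow_succ]
        ring
    have h4 := h3 (Nat.card P)
    have h5 : Nat.card P < 2 ^ Nat.card P := Nat.lt_two_pow_self
    have h6 : 0 < Nat.card (B P g (Nat.card P)) := Nat.card_pos
    nlinarith
  classical
  set N := Nat.find hex with hN
  have hN1 : B P g N = ⊥ := Nat.find_spec hex
  have hN2 : ∀ j < N, B P g j ≠ ⊥ := fun j hj => Nat.find_min hex hj
  have hNpos : 0 < N := by
    rcases Nat.eq_zero_or_pos N with h0 | h0
    · exfalso
      rw [h0] at hN1
      have hP : P = ⊥ := hN1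
      rw [hP, Subgroup.relIndex_bot_right] at h2
      omega
    · exact h0
  have hcard : ∀ m ≤ N, Nat.card (B P g (N - m)) = 2 ^ m := by
    intro m
    induction m with
    | zero =>
      intro _
      rw [Nat.sub_zero, hN1, pow_zero]
      exact Subgroup.card_bot
    | succ m ih =>
      intro hm
      have ih := ih (by omega)
      have e1 : N - m = N - (m + 1) + 1 := by omega
      have e := card_mul_relIndex (B_succ_le (P := P) (g := g) (N - (m + 1)))
      rw [relIndex_B h2 hU _ (hN2 _ (by omega)), ← e1, ih] at e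
      rw [← e, pow_succ]
  refine ⟨N, fun m => B P g (N - m), ⟨hcard, ?_, ?_, ?_⟩, ?_, hNpos⟩
  · intro m hm
    show B P g (N - m) ≤ B P g (N - (m + 1))
    have e1 : N - m = N - (m + 1) + 1 := by omega
    rw [e1]
    exact B_succ_le _
  · intro m hm
    show MulAut.conj g • B P g (N - m) ≤ B P g (N - (m + 1))
    have e1 : N - m = N - (m + 1) + 1 := by omega
    rw [e1]
    exact conj_B_succ_le _
  · intro m hm
    show B P g (N - (m + 1)) ⊓ MulAut.conj g • B P g (N - (m + 1)) ≤ MulAut.conj g • B P g (N - m)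
    have e1 : N - m = N - (m + 1) + 1 := by omega
    rw [e1]
    show _ ≤ MulAut.conj g • (B P g (N - (m + 1)) ⊓ MulAut.conj g⁻¹ • B P g (N - (m + 1)))
    rw [Subgroup.smul_inf, conj_inv_smul, inf_comm]
  · show B P g (N - N) = P
    rw [Nat.sub_self]
    rfl

end Cfsg.Agent.H581.Sims
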