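import Cfsg.Agent.H581.SimsA

/-!
# Sims' shift argument: the intervals of the chain
-/

set_option autoImplicit false

open Pointwise

namespace Cfsg.Agent.H581.Sims

variable {G : Type*} [Group G]

/-- The interval subgroup `G_{i, i + m - 1}`. -/
def S (g : G) (T : ℕ → Subgroup G) (i : ℤ) (m : ℕ) : Subgroup G := MulAut.conj (g ^ i) • T m

/-- the shifted involution -/
def el (g a : G) (i : ℤ) : G := g ^ i * a * (g ^ i)⁻¹

/-- Chain with its first involution. -/
structure Data (g a : G) (N : ℕ) (T : ℕ → Subgroup G) : Prop extends Chain g N T where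
  one : ∀ x, x ∈ T 1 ↔ x = 1 ∨ x = a
  ne : a ≠ 1
  sq : a * a = 1
  pos : 0 < N

variable {g a : G} {N : ℕ} {T : ℕ → Subgroup G}

theorem conj_S (i j : ℤ) (m : ℕ) : MulAut.conj (g ^ j) • S g T i m = S g T (j + i) m := by
  unfold S
  rw [smul_smul, ← map_mul, zpow_add]

theorem conj_S_one (i : ℤ) (m : ℕ) : MulAut.conj g • S g T i m = S g T (i + 1) m := by
  have h := conj_S (g := g) (T := T) i 1 m
  rwa [zpow_one, add_comm] at h

theorem S_zero (m : ℕ) : S g T 0 m = T m := by
  unfold S
  rw [zpow_zero, map_one, one_smul]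

theorem mem_conj_S {i j : ℤ} {m : ℕ} {x : G} (h : x ∈ S g T i m) : g ^ j * x * (g ^ j)⁻¹ ∈ S g T (j + i) m := by
  rw [← conj_S]
  exact ⟨x, h, rfl⟩

theorem el_conj (i j : ℤ) : g ^ j * el g a i * (g ^ j)⁻¹ = el g a (j + i) := by
  unfold el
  rw [zpow_add]
  group

theorem el_zero : el g a 0 = a := by
  unfold el
  simp

/-- passage from a chain to data -/
theorem Chain.exists_data [Finite G] (hC : Chain g N T) (hN : 0 < N) : ∃ a, Data g a N T := by
  have h1 : Nat.card (T 1) = 2 := by rw [hC.card 1 hN, pow_one]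
  obtain ⟨x, y, hxy, huniv⟩ := Nat.card_eq_two_iff.1 h1
  obtain ⟨a, ha⟩ : ∃ a : T 1, a ≠ 1 ∧ ∀ z : T 1, z = 1 ∨ z = a := by
    have hz : ∀ z : T 1, z = x ∨ z = y := by
      intro z
      have : z ∈ ({x, y} : Set (T 1)) := by rw [huniv]; trivial
      simpa using this
    rcases hz 1 with h | h
    · exact ⟨y, by rw [h]; exact hxy.symm, by rw [h]; exact hz⟩
    · refine ⟨x, by rw [h]; exact hxy, fun z => ?_⟩
      rw [h]
      exact (hz z).symm
  refine ⟨a, hC, fun z => ⟨fun hz => ?_, fun hz => ?_⟩, ?_, ?_, hN⟩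
  · rcases ha.2 ⟨z, hz⟩ with h | h
    · left
      exact congrArg Subtype.val h
    · right
      rw [← h]
  · rcases hz with rfl | rfl
    · exact one_mem _
    · exact a.2
  · intro h
    exact ha.1 (Subtype.ext h)
  · rcases ha.2 (a * a) with h | h
    · exact congrArg Subtype.val h
    · exact absurd (mul_eq_left.1 h) ha.1

namespace Data

theorem bot (hD : Data g a N T) (i : ℤ) : S g T i 0 = ⊥ := by
  have h0 : Nat.card (T 0) = 1 := by rw [hD.card 0 (Nat.zero_le _), pow_zero]
  unfold S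
  rw [(Subgroup.card_eq_one).1 h0]
  exact Subgroup.smul_bot _

theorem S_card (hD : Data g a N T) (i : ℤ) {m : ℕ} (hm : m ≤ N) : Nat.card (S g T i m) = 2 ^ m := by
  unfold S
  rw [card_conj, hD.card m hm]

theorem S_le (hD : Data g a N T) (i : ℤ) {m : ℕ} (hm : m < N) : S g T i m ≤ S g T i (m + 1) :=
  Subgroup.pointwise_smul_le_pointwise_smul_iff.2 (hD.le m hm)

theorem S_cle (hD : Data g a N T) (i : ℤ) {m : ℕ} (hm : m < N) : S g T (i + 1) m ≤ S g T i (m + 1) := by
  have h := Subgroup.pointwise_smul_le_pointwise_smul_iff (a := MulAut.conj (g ^ i)) |>.2 (hD.cle m hm)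
  rw [smul_smul, ← map_mul, ← zpow_add_one] at h
  exact h

theorem S_inf (hD : Data g a N T) (i : ℤ) {m : ℕ} (hm : m < N) :
    S g T i (m + 1) ⊓ S g T (i + 1) (m + 1) ≤ S g T (i + 1) m := by
  have h := Subgroup.pointwise_smul_le_pointwise_smul_iff (a := MulAut.conj (g ^ i)) |>.2 (hD.inf m hm)
  rw [Subgroup.smul_inf, smul_smul, ← map_mul, smul_smul, ← map_mul, ← zpow_add_one] at h
  exact h

theorem mono_right (hD : Data g a N T) (i : ℤ) (m b : ℕ) (h : m + b ≤ N) : S g T i m ≤ S g T i (m + b) := by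
  induction b with
  | zero => exact le_rfl
  | succ b ih => exact (ih (by omega)).trans (hD.S_le i (by omega))

theorem mono_left (hD : Data g a N T) (i : ℤ) (m b : ℕ) (h : m + b ≤ N) : S g T (i + b) m ≤ S g T i (m + b) := by
  induction b generalizing m with
  | zero => simp
  | succ b ih =>
    have h1 := hD.S_cle (i + b) (m := m) (by omega)
    have h2 := ih (m + 1) (by omega)
    have e1 : i + ((b + 1 : ℕ) : ℤ) = i + b + 1 := by push_cast; ring
    have e2 : m + (b + 1) = m + 1 + b := by omega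
    rw [e1, e2]
    exact h1.trans h2

theorem mono (hD : Data g a N T) {i k : ℤ} {m M : ℕ} (h1 : i ≤ k) (h2 : k + m ≤ i + M) (h3 : M ≤ N) :
    S g T k m ≤ S g T i M := by
  obtain ⟨b, hb⟩ := Int.eq_ofNat_of_zero_le (sub_nonneg.2 h1)
  have hk : k = i + b := by omega
  subst hk
  obtain ⟨c, hc⟩ : ∃ c, M = m + b + c := ⟨M - (m + b), by omega⟩
  subst hc
  exact (hD.mono_left i m b (by omega)).trans (hD.mono_right i (m + b) c h3)

/-- Intersection of two intervals. -/
theorem inter (hD : Data g a N T) (L : ℕ) : ∀ (k i : ℤ) (m' m : ℕ), k ≤ i → i ≤ k + m' → k + m' ≤ i + m →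
    i + m - k ≤ L → L ≤ N → ∀ x, x ∈ S g T k m' → x ∈ S g T i m → ∀ n : ℕ, k + m' = i + n → x ∈ S g T i n := by
  induction L with
  | zero =>
    intro k i m' m h1 h2 h3 h4 _ x hx1 _ n hn
    have e1 : k = i := by omega
    have e2 : m' = n := by omega
    subst e1 e2
    exact hx1
  | succ L ih =>
    intro k i m' m h1 h2 h3 h4 h5 x hx1 hx2 n hn
    rcases h1.lt_or_eq with hlt | heq
    · -- k < i
      by_cases hL : i + m - k ≤ L
      · exact ih k i m' m h1 h2 h3 hL (by omega) x hx1 hx2 n hn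
      · have e0 : i + m - k = L + 1 := by push_cast at h4 ⊢; omega
        by_cases hend : k + m' = i + m
        · have : n = m := by omega
          subst this
          exact hx2
        · -- k + m' < i + m
          have hLpos : 0 < L := by
            by_contra h0
            have : L = 0 := by omega
            subst this
            omega
          obtain ⟨l, rfl⟩ : ∃ l, L = l + 1 := ⟨L - 1, by omega⟩
          have hx3 : x ∈ S g T k (l + 1) := hD.mono le_rfl (by push_cast at *; omega) (by omega) hx1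
          have hx4 : x ∈ S g T (k + 1) (l + 1) := hD.mono (by omega) (by push_cast at *; omega) (by omega) hx2
          have hx5 : x ∈ S g T (k + 1) l := hD.S_inf k (by omega) ⟨hx3, hx4⟩
          rcases Nat.eq_zero_or_pos m' with h0 | h0
          · exfalso
            omega
          · obtain ⟨m'', rfl⟩ : ∃ m'', m' = m'' + 1 := ⟨m' - 1, by omega⟩
            have hx6 : x ∈ S g T (k + 1) m'' :=
              ih k (k + 1) (m'' + 1) l (by omega) (by push_cast; omega) (by push_cast at *; omega) (by push_cast at *; omega)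
                (by omega) x hx1 hx5 m'' (by push_cast; ring)
            exact ih (k + 1) i m'' m (by omega) (by push_cast at *; omega) (by push_cast at *; omega)
              (by push_cast at *; omega) (by omega) x hx6 hx2 n (by push_cast at *; omega)
    · subst heq
      have : n = m' := by omega
      subst this
      exact hx1

theorem mem_one (hD : Data g a N T) (i : ℤ) (x : G) : x ∈ S g T i 1 ↔ x = 1 ∨ x = el g a i := by
  unfold S el
  rw [Subgroup.mem_pointwise_smul_iff_inv_smul_mem, ← map_inv, MulAut.smul_def, MulAut.conj_apply, inv_inv, hD.one]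
  constructor
  · rintro (h | h)
    · left
      have : x = g ^ i * ((g ^ i)⁻¹ * x * g ^ i) * (g ^ i)⁻¹ := by group
      rw [this, h]
      group
    · right
      rw [← h]
      group
  · rintro (h | h)
    · left
      rw [h]
      group
    · right
      rw [h]
      group

theorem el_ne (hD : Data g a N T) (i : ℤ) : el g a i ≠ 1 := by
  intro h
  apply hD.ne
  unfold el at h
  have : a = (g ^ i)⁻¹ * (g ^ i * a * (g ^ i)⁻¹) * g ^ i := by group
  rw [this, h]
  group

theorem el_sq (hD : Data g a N T) (i : ℤ) : el g a i * el g a i = 1 := by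
  unfold el
  have : g ^ i * a * (g ^ i)⁻¹ * (g ^ i * a * (g ^ i)⁻¹) = g ^ i * (a * a) * (g ^ i)⁻¹ := by group
  rw [this, hD.sq]
  group

theorem el_inv (hD : Data g a N T) (i : ℤ) : (el g a i)⁻¹ = el g a i :=
  inv_eq_of_mul_eq_one_left (hD.el_sq i)

theorem el_mem (hD : Data g a N T) {i k : ℤ} {m : ℕ} (h1 : k ≤ i) (h2 : i < k + m) (h3 : m ≤ N) :
    el g a i ∈ S g T k m :=
  hD.mono (m := 1) h1 (by push_cast; omega) h3 ((hD.mem_one i _).2 (Or.inr rfl))

theorem el_notMem_right (hD : Data g a N T) {i k : ℤ} {m : ℕ} (h1 : k + m ≤ i) (h2 : i < k + N) :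
    el g a i ∉ S g T k m := by
  intro h
  obtain ⟨l, hl⟩ := Int.eq_ofNat_of_zero_le (sub_nonneg.2 (show k ≤ i by omega))
  have h3 : el g a i ∈ S g T k l := hD.mono le_rfl (by omega) (by omega) h
  have h4 := hD.inter (l + 1) k i l 1 (by omega) (by omega) (by omega) (by push_cast; omega) (by omega) _ h3
    (hD.el_mem le_rfl (by push_cast; omega) (by omega)) 0 (by push_cast; omega)
  rw [hD.bot] at h4
  exact hD.el_ne i (Subgroup.mem_bot.1 h4)

theorem el_notMem_left (hD : Data g a N T) {i k : ℤ} {m : ℕ} (h1 : i < k) (h2 : k + m ≤ i + N) :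
    el g a i ∉ S g T k m := by
  intro h
  have h3 : el g a i ∈ S g T (i + 1) (k + m - (i + 1)).toNat := hD.mono (by omega) (by omega) (by omega) h
  have h4 := hD.inter ((k + m - (i + 1)).toNat + 1) i (i + 1) 1 (k + m - (i + 1)).toNat (by omega) (by push_cast; omega) (by push_cast; omega)
    (by push_cast; omega) (by omega) _ (hD.el_mem le_rfl (by push_cast; omega) (by have := hD.pos; omega)) h3 0 (by push_cast; omega)
  rw [hD.bot] at h4
  exact hD.el_ne i (Subgroup.mem_bot.1 h4)

theorem relIndex_right (hD : Data g a N T) (i : ℤ) {m : ℕ} (hm : m < N) :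
    (S g T i m).relIndex (S g T i (m + 1)) = 2 :=
  relIndex_two_of_card (hD.S_le i hm) (hD.S_card i hm.le) (hD.S_card i hm)

theorem relIndex_left (hD : Data g a N T) (i : ℤ) {m : ℕ} (hm : m < N) :
    (S g T (i + 1) m).relIndex (S g T i (m + 1)) = 2 :=
  relIndex_two_of_card (hD.S_cle i hm) (hD.S_card _ hm.le) (hD.S_card i hm)

theorem le_normalizer_right (hD : Data g a N T) (i : ℤ) {m : ℕ} (hm : m < N) :
    S g T i (m + 1) ≤ Subgroup.normalizer (S g T i m : Set G) :=
  le_normalizer_two (hD.S_le i hm) (hD.relIndex_right i hm)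

theorem le_normalizer_left (hD : Data g a N T) (i : ℤ) {m : ℕ} (hm : m < N) :
    S g T i (m + 1) ≤ Subgroup.normalizer (S g T (i + 1) m : Set G) :=
  le_normalizer_two (hD.S_cle i hm) (hD.relIndex_left i hm)

/-- An interval is generated by its involutions. -/
theorem le_of_gen (hD : Data g a N T) (X : Subgroup G) (k : ℤ) (m : ℕ) (hm : m ≤ N)
    (h : ∀ i, k ≤ i → i < k + m → el g a i ∈ X) : S g T k m ≤ X := by
  induction m with
  | zero => rw [hD.bot]; exact bot_le
  | succ m ih =>
    refine le_of_two (hD.relIndex_right k (by omega)) (ih (by omega) fun i h1 h2 => h i h1 (by push_cast; omega)) ?_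
    intro hle
    exact hD.el_notMem_right (i := k + m) (k := k) (m := m) le_rfl (by omega)
      (hle ⟨h _ (by omega) (by push_cast; omega), hD.el_mem (by omega) (by push_cast; omega) hm⟩)

/-- the commutator of two of the involutions -/
theorem comm_mem (hD : Data g a N T) (i : ℤ) (d : ℕ) (hd : d + 2 ≤ N) :
    el g a i * el g a (i + (d + 1)) * (el g a i)⁻¹ * (el g a (i + (d + 1)))⁻¹ ∈ S g T (i + 1) d := by
  have h1 : el g a i ∈ S g T i (d + 1) := hD.el_mem le_rfl (by push_cast; omega) (by omega)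
  have h2 : el g a i ∈ S g T i (d + 2) := hD.el_mem le_rfl (by push_cast; omega) (by omega)
  have h3 : el g a (i + (d + 1)) ∈ S g T (i + 1) (d + 1) := hD.el_mem (by omega) (by push_cast; omega) (by omega)
  have h4 : el g a (i + (d + 1)) ∈ S g T i (d + 2) := hD.el_mem (by omega) (by push_cast; omega) (by omega)
  refine hD.S_inf i (m := d) (by omega) ⟨?_, ?_⟩
  · have h5 := (Subgroup.mem_normalizer_iff.1 (hD.le_normalizer_right i (m := d + 1) (by omega) h4) (el g a i)⁻¹).1
      (inv_mem h1)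
    have h6 := mul_mem h1 h5
    rwa [← mul_assoc, ← mul_assoc] at h6
  · have h5 := (Subgroup.mem_normalizer_iff.1 (hD.le_normalizer_left i (m := d + 1) (by omega) h2) (el g a (i + (d + 1)))).1 h3
    exact (S g T (i + 1) (d + 1)).mul_mem h5 ((S g T (i + 1) (d + 1)).inv_mem h3)

/-- The reversed data. -/
theorem reverse (hD : Data g a N T) : Data g⁻¹ a N (fun m => S g T (1 - m) m) where
  card m hm := hD.S_card _ hm
  le m hm := by
    have h := hD.S_cle (-m) hm
    have e1 : (-m : ℤ) + 1 = 1 - m := by ring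
    have e2 : (-m : ℤ) = 1 - ((m + 1 : ℕ) : ℤ) := by push_cast; ring
    rw [e1, e2] at h
    exact h
  cle m hm := by
    have h1 : MulAut.conj g⁻¹ • S g T (1 - m) m = S g T (-m) m := by
      have h := conj_S (g := g) (T := T) (1 - m) (-1) m
      rw [zpow_neg_one] at h
      rw [h]
      congr 1
      ring
    show MulAut.conj g⁻¹ • S g T (1 - m) m ≤ S g T (1 - ((m + 1 : ℕ) : ℤ)) (m + 1)
    rw [h1]
    have e2 : (-m : ℤ) = 1 - ((m + 1 : ℕ) : ℤ) := by push_cast; ring
    rw [← e2]
    exact hD.S_le _ hm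
  inf m hm := by
    have h1 : ∀ (n : ℕ) (i : ℤ), MulAut.conj g⁻¹ • S g T i n = S g T (i - 1) n := by
      intro n i
      have h := conj_S (g := g) (T := T) i (-1) n
      rw [zpow_neg_one] at h
      rw [h]
      congr 1
      ring
    show S g T (1 - ((m + 1 : ℕ) : ℤ)) (m + 1) ⊓ MulAut.conj g⁻¹ • S g T (1 - ((m + 1 : ℕ) : ℤ)) (m + 1) ≤
      MulAut.conj g⁻¹ • S g T (1 - m) m
    rw [h1, h1]
    have h := hD.S_inf (1 - ((m + 1 : ℕ) : ℤ) - 1) hm
    have e1 : (1 - ((m + 1 : ℕ) : ℤ) - 1 + 1 : ℤ) = 1 - ((m + 1 : ℕ) : ℤ) := by ring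
    have e2 : (1 - m - 1 : ℤ) = 1 - ((m + 1 : ℕ) : ℤ) := by push_cast; ring
    rw [e1, inf_comm] at h
    rw [e2]
    exact h
  one x := by
    show x ∈ S g T (1 - ((1 : ℕ) : ℤ)) 1 ↔ _
    rw [hD.mem_one]
    have e : (1 - ((1 : ℕ) : ℤ)) = 0 := by norm_num
    rw [e, el_zero]
  ne := hD.ne
  sq := hD.sq
  pos := hD.pos

theorem S_reverse (i : ℤ) (m : ℕ) : S g⁻¹ (fun m => S g T (1 - m) m) i m = S g T (1 - m - i) m := by
  show MulAut.conj (g⁻¹ ^ i) • S g T (1 - m) m = _
  rw [inv_zpow', conj_S]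
  congr 1
  ring

end Data

theorem el_reverse (i : ℤ) : el g⁻¹ a i = el g a (-i) := by
  unfold el
  rw [inv_zpow']

end Cfsg.Agent.H581.Sims
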