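import Cfsg.Agent.H581.SimsB

/-!
# Sims' shift argument: the bound

`Data.main`: with `P = T N`, if no non-identity subgroup of `P` is normalised by `P`, `gPg⁻¹` and `g²Pg⁻²`, then
`N ≤ 4`, and the commutators of the involutions are as expected.
-/

set_option autoImplicit false

open Pointwise

namespace Cfsg.Agent.H581.Sims

variable {G : Type*} [Group G] {g a : G} {N : ℕ} {T : ℕ → Subgroup G}

theorem commute_shift (i j k : ℤ) : Commute (el g a (k + i)) (el g a (k + j)) ↔ Commute (el g a i) (el g a j) := by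
  rw [← el_conj, ← el_conj]
  constructor
  · intro h
    have h1 : g ^ k * (el g a i * el g a j) * (g ^ k)⁻¹ = g ^ k * (el g a j * el g a i) * (g ^ k)⁻¹ := by
      have h2 := h.eq
      calc g ^ k * (el g a i * el g a j) * (g ^ k)⁻¹
          = g ^ k * el g a i * (g ^ k)⁻¹ * (g ^ k * el g a j * (g ^ k)⁻¹) := by group
        _ = _ := h2
        _ = _ := by group
    exact mul_left_cancel (mul_right_cancel h1)
  · intro h
    show _ = _
    calc g ^ k * el g a i * (g ^ k)⁻¹ * (g ^ k * el g a j * (g ^ k)⁻¹)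
        = g ^ k * (el g a i * el g a j) * (g ^ k)⁻¹ := by group
      _ = g ^ k * (el g a j * el g a i) * (g ^ k)⁻¹ := by rw [h.eq]
      _ = _ := by group

theorem comm_of {m : ℕ} (hm : ∀ d : ℕ, 1 ≤ d → d ≤ m → Commute (el g a 0) (el g a d)) {i j : ℤ}
    (h1 : i - j ≤ m) (h2 : j - i ≤ m) : Commute (el g a i) (el g a j) := by
  rcases lt_trichotomy i j with h | h | h
  · obtain ⟨d, hd⟩ := Int.eq_ofNat_of_zero_le (show 0 ≤ j - i by omega)
    have h3 := (commute_shift 0 (d : ℤ) i).2 (hm d (by omega) (by omega))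
    have e1 : i + 0 = i := by ring
    have e2 : i + (d : ℤ) = j := by omega
    rwa [e1, e2] at h3
  · subst h
    exact Commute.refl _
  · obtain ⟨d, hd⟩ := Int.eq_ofNat_of_zero_le (show 0 ≤ i - j by omega)
    have h3 := (commute_shift 0 (d : ℤ) j).2 (hm d (by omega) (by omega))
    have e1 : j + 0 = j := by ring
    have e2 : j + (d : ℤ) = i := by omega
    rw [e1, e2] at h3
    exact h3.symm

/-- the commutator `[a_i, a_j]` -/
def cm (g a : G) (i j : ℤ) : G := el g a i * el g a j * (el g a i)⁻¹ * (el g a j)⁻¹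

theorem cm_conj (i j k : ℤ) : g ^ k * cm g a i j * (g ^ k)⁻¹ = cm g a (k + i) (k + j) := by
  unfold cm
  rw [← el_conj i k, ← el_conj j k]
  group

theorem cm_inv (i j : ℤ) : (cm g a i j)⁻¹ = cm g a j i := by
  unfold cm
  group

theorem cm_eq_one {i j : ℤ} : cm g a i j = 1 ↔ Commute (el g a i) (el g a j) := by
  unfold cm
  rw [mul_inv_eq_one, mul_inv_eq_iff_eq_mul]
  rfl

namespace Data

theorem centralize (hD : Data g a N T) (t : G) (k : ℤ) (n : ℕ) (hn : n ≤ N)
    (h : ∀ i, k ≤ i → i < k + n → Commute t (el g a i)) {x : G} (hx : x ∈ S g T k n) : Commute t x := by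
  have h1 : S g T k n ≤ Subgroup.centralizer {t} := by
    refine hD.le_of_gen _ k n hn fun i h2 h3 => ?_
    rw [Subgroup.mem_centralizer_singleton_iff]
    exact (h i h2 h3).eq.symm
  have h2 := Subgroup.mem_centralizer_singleton_iff.1 (h1 hx)
  exact h2.symm

theorem le_normalizer_zpowers (hD : Data g a N T) (i : ℤ) {k : ℤ} {n : ℕ} (hn : n ≤ N)
    (h : ∀ j, k ≤ j → j < k + n → Commute (el g a i) (el g a j)) :
    S g T k n ≤ Subgroup.normalizer (S g T i 1 : Set G) := by
  intro x hx
  rw [Subgroup.mem_normalizer_iff]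
  have hc := hD.centralize (el g a i) k n hn h hx
  have hc' : x * el g a i * x⁻¹ = el g a i := by rw [← hc.eq, mul_inv_cancel_right]
  intro y
  rw [hD.mem_one, hD.mem_one]
  constructor
  · rintro (rfl | rfl)
    · left; group
    · right; exact hc'
  · rintro (h1 | h1)
    · left
      have : y = x⁻¹ * (x * y * x⁻¹) * x := by group
      rw [this, h1]; group
    · right
      have : y = x⁻¹ * (x * y * x⁻¹) * x := by group
      rw [this, h1, mul_assoc, hc.eq, inv_mul_cancel_left]

/-- The first commutation bound. -/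
theorem stepR (hD : Data g a N T) {m : ℕ} (hm : ∀ d : ℕ, 1 ≤ d → d ≤ m → Commute (el g a 0) (el g a d))
    (hnc : ¬ Commute (el g a 0) (el g a (m + 1))) (r n : ℕ) (hr : 1 ≤ r) (hrn : r + n = m) (hN : r + m + 2 ≤ N)
    (hc : cm g a 0 (m + 1) ∈ S g T r (n + 1)) : cm g a 0 (m + 1) ∈ S g T (r + 1) n := by
  set t := el g a (r + m + 1) with ht
  -- `t` commutes with `c`
  have h1 : Commute t (el g a (m + 1)) := comm_of hm (by omega) (by omega)
  have hx : cm g a 0 (r + m + 1) ∈ S g T 1 (r + m) := by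
    have := hD.comm_mem 0 (r + m) hN
    rw [zero_add, zero_add] at this
    push_cast at this
    exact this
  have h2 : (el g a 0)⁻¹ * (cm g a 0 (r + m + 1))⁻¹ * el g a 0 ∈ S g T 1 (r + m) := by
    have h3 : el g a 0 ∈ S g T 0 (r + m + 1) := hD.el_mem le_rfl (by push_cast; omega) (by omega)
    have h4 := hD.le_normalizer_left 0 (m := r + m) (by omega) h3
    rw [zero_add] at h4
    exact (Subgroup.mem_normalizer_iff''.1 h4 _).1 (inv_mem hx)
  have h5 : Commute (el g a (m + 1)) ((el g a 0)⁻¹ * (cm g a 0 (r + m + 1))⁻¹ * el g a 0) := by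
    refine hD.centralize _ 1 (r + m) (by omega) (fun i hi1 hi2 => ?_) h2
    exact comm_of hm (by push_cast at *; omega) (by push_cast at *; omega)
  have h6 : Commute t (cm g a 0 (m + 1)) := by
    have e1 : t * el g a 0 * t⁻¹ = el g a 0 * ((el g a 0)⁻¹ * (cm g a 0 (r + m + 1))⁻¹ * el g a 0) := by
      unfold cm
      rw [← ht]
      group
    have e2 : t * el g a (m + 1) * t⁻¹ = el g a (m + 1) := by rw [h1.eq, mul_inv_cancel_right]
    set d := (el g a 0)⁻¹ * (cm g a 0 (r + m + 1))⁻¹ * el g a 0 with hd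
    have e3 : t * cm g a 0 (m + 1) * t⁻¹ = cm g a 0 (m + 1) := by
      have : t * cm g a 0 (m + 1) * t⁻¹ = (t * el g a 0 * t⁻¹) * (t * el g a (m + 1) * t⁻¹) * (t * el g a 0 * t⁻¹)⁻¹ *
          (t * el g a (m + 1) * t⁻¹)⁻¹ := by
        unfold cm
        group
      rw [this, e1, e2]
      have h7 : el g a (m + 1) * d⁻¹ = d⁻¹ * el g a (m + 1) := (h5.inv_right).eq
      calc el g a 0 * d * el g a (m + 1) * (el g a 0 * d)⁻¹ * (el g a (m + 1))⁻¹
          = el g a 0 * d * (el g a (m + 1) * d⁻¹) * (el g a 0)⁻¹ * (el g a (m + 1))⁻¹ := by group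
        _ = el g a 0 * d * (d⁻¹ * el g a (m + 1)) * (el g a 0)⁻¹ * (el g a (m + 1))⁻¹ := by rw [h7]
        _ = cm g a 0 (m + 1) := by unfold cm; group
    show t * cm g a 0 (m + 1) = cm g a 0 (m + 1) * t
    rwa [mul_inv_eq_iff_eq_mul] at e3
  by_contra hcon
  have h8 : el g a r ∉ S g T (r + 1) n := hD.el_notMem_left (by omega) (by omega)
  have h9 : el g a r ∈ S g T r (n + 1) := hD.el_mem le_rfl (by push_cast; omega) (by omega)
  have h10 := div_mem_two (hD.relIndex_left r (m := n) (by omega)) h9 h8 hc hcon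
  have h11 : Commute t (cm g a 0 (m + 1) * (el g a r)⁻¹) := by
    refine hD.centralize _ (r + 1) n (by omega) (fun i hi1 hi2 => ?_) h10
    exact comm_of hm (by omega) (by omega)
  have h12 : Commute t (el g a r) := by
    have e : el g a r = (cm g a 0 (m + 1) * (el g a r)⁻¹)⁻¹ * cm g a 0 (m + 1) := by group
    rw [e]
    exact (h11.inv_right).mul_right h6
  apply hnc
  have h13 := (commute_shift (g := g) (a := a) 0 (m + 1) r)
  rw [← h13]
  have e1 : (r : ℤ) + 0 = r := by ring
  have e2 : (r : ℤ) + (m + 1) = r + m + 1 := by ring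
  rw [e1, e2]
  exact h12.symm

theorem iterR (hD : Data g a N T) {m : ℕ} (hm : ∀ d : ℕ, 1 ≤ d → d ≤ m → Commute (el g a 0) (el g a d))
    (hnc : ¬ Commute (el g a 0) (el g a (m + 1))) (hmN : m + 2 ≤ N) (r : ℕ) : ∀ n, 1 ≤ r → r + n = m + 1 → r + m + 1 ≤ N →
    cm g a 0 (m + 1) ∈ S g T r n := by
  induction r with
  | zero => intro n h; omega
  | succ r ih =>
    intro n _ h2 h3
    rcases Nat.eq_zero_or_pos r with rfl | hr
    · have h4 := hD.comm_mem 0 m hmN
      rw [zero_add, zero_add] at h4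
      have : n = m := by omega
      subst this
      have e : ((0 + 1 : ℕ) : ℤ) = 1 := by norm_num
      rw [e]
      exact h4
    · have h4 := ih (n + 1) hr (by omega) (by omega)
      have := hD.stepR hm hnc r n hr (by omega) (by omega) h4
      simpa using this

/-- The two-sided bound. -/
theorem two_sided (hD : Data g a N T) {m : ℕ} (hm : ∀ d : ℕ, 1 ≤ d → d ≤ m → Commute (el g a 0) (el g a d))
    (hnc : ¬ Commute (el g a 0) (el g a (m + 1))) (hmN : m + 2 ≤ N) :
    2 * N ≤ 3 * m + 3 ∧ ∀ r k : ℕ, r + m + 1 = N → k + 2 * N = 3 * m + 4 → cm g a 0 (m + 1) ∈ S g T r k := by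
  have hne : cm g a 0 (m + 1) ≠ 1 := fun h => hnc (cm_eq_one.1 h)
  have hN1 : N ≤ 2 * m + 1 := by
    by_contra hcon
    have h1 := hD.iterR hm hnc hmN (m + 1) 0 (by omega) (by omega) (by omega)
    rw [hD.bot] at h1
    exact hne (Subgroup.mem_bot.1 h1)
  obtain ⟨r, hr⟩ : ∃ r, r + m + 1 = N := ⟨N - m - 1, by omega⟩
  obtain ⟨n, hn⟩ : ∃ n, r + n = m + 1 := ⟨m + 1 - r, by omega⟩
  have h1 := hD.iterR hm hnc hmN r n (by omega) hn (by omega)
  have h2 : cm g a 0 (m + 1) ∈ S g T 1 n := by
    have hm' : ∀ d : ℕ, 1 ≤ d → d ≤ m → Commute (el g⁻¹ a 0) (el g⁻¹ a d) := by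
      intro d _ hd2
      rw [el_reverse, el_reverse]
      exact comm_of hm (by omega) (by omega)
    have hnc' : ¬ Commute (el g⁻¹ a 0) (el g⁻¹ a (m + 1)) := by
      intro h
      apply hnc
      rw [el_reverse, el_reverse] at h
      have := (commute_shift (g := g) (a := a) (-0) (-(m + 1)) (m + 1)).2 h
      have e1 : ((m : ℤ) + 1) + (-0) = m + 1 := by ring
      have e2 : ((m : ℤ) + 1) + (-(m + 1)) = 0 := by ring
      rw [e1, e2] at this
      exact this.symm
    have h3 := hD.reverse.iterR hm' hnc' hmN r n (by omega) hn (by omega)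
    rw [S_reverse] at h3
    have h4 := mem_conj_S (j := m + 1) h3
    have e0 : cm g⁻¹ a 0 (m + 1) = cm g a (-0) (-(m + 1)) := by
      unfold cm
      rw [el_reverse, el_reverse]
    rw [e0, cm_conj] at h4
    have e1 : ((m : ℤ) + 1) + (-0) = m + 1 := by ring
    have e2 : ((m : ℤ) + 1) + (-(m + 1)) = 0 := by ring
    have e3 : (m : ℤ) + 1 + (1 - n - r) = 1 := by omega
    rw [e1, e2, e3, ← cm_inv] at h4
    exact (Subgroup.inv_mem_iff _).1 h4
  have h3 : r ≤ n := by
    by_contra hcon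
    obtain ⟨l, hl⟩ : ∃ l, r = l + 1 := ⟨r - 1, by omega⟩
    have h4 : cm g a 0 (m + 1) ∈ S g T 1 l := hD.mono le_rfl (by omega) (by omega) h2
    have h5 := hD.inter m 1 r l n (by omega) (by push_cast; omega) (by push_cast; omega) (by omega) (by omega) _ h4 h1 0
      (by push_cast; omega)
    rw [hD.bot] at h5
    exact hne (Subgroup.mem_bot.1 h5)
  refine ⟨by omega, ?_⟩
  intro r' k hr' hk
  have e : r' = r := by omega
  subst e
  exact hD.inter m 1 r' n n (by omega) (by omega) (by omega) (by omega) (by omega) _ h2 h1 k (by omega)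

theorem sq_one (hD : Data g a N T) {m : ℕ} (hm : ∀ d : ℕ, 1 ≤ d → d ≤ m → Commute (el g a 0) (el g a d)) (k : ℤ) (n : ℕ)
    (hn : n ≤ m + 1) (hnN : n ≤ N) : ∀ x ∈ S g T k n, x * x = 1 := by
  induction n with
  | zero =>
    intro x hx
    rw [hD.bot, Subgroup.mem_bot] at hx
    rw [hx, mul_one]
  | succ n ih =>
    intro x hx
    by_cases h1 : x ∈ S g T k n
    · exact ih (by omega) (by omega) x h1
    · have h2 : el g a (k + n) ∉ S g T k n := hD.el_notMem_right le_rfl (by omega)
      have h3 : el g a (k + n) ∈ S g T k (n + 1) := hD.el_mem (by omega) (by push_cast; omega) hnN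
      have h4 := div_mem_two (hD.relIndex_right k (m := n) (by omega)) h3 h2 hx h1
      have h5 := ih (by omega) (by omega) _ h4
      have h6 : Commute (el g a (k + n)) (x * (el g a (k + n))⁻¹) :=
        hD.centralize _ k n (by omega) (fun i hi1 hi2 => comm_of hm (by omega) (by omega)) h4
      have h7 := hD.el_sq (k + n)
      set y := x * (el g a (k + n))⁻¹ with hy
      have h8 : x = y * el g a (k + n) := by rw [hy]; group
      rw [h8]
      calc y * el g a (k + n) * (y * el g a (k + n)) = y * (el g a (k + n) * y) * el g a (k + n) := by group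
        _ = y * (y * el g a (k + n)) * el g a (k + n) := by rw [h6.eq]
        _ = (y * y) * (el g a (k + n) * el g a (k + n)) := by group
        _ = 1 := by rw [h5, h7, one_mul]

theorem le_normalizer_mid (hD : Data g a N T) (i : ℤ) (m : ℕ) (hm : m + 2 ≤ N) :
    S g T i (m + 2) ≤ Subgroup.normalizer (S g T (i + 1) m : Set G) := by
  have h1 : S g T i (m + 1) ⊓ S g T (i + 1) (m + 1) = S g T (i + 1) m :=
    le_antisymm (hD.S_inf i (by omega)) (le_inf (hD.S_cle i (by omega)) (hD.S_le (i + 1) (by omega)))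
  rw [← h1]
  intro x hx
  have h2 := hD.le_normalizer_right i (m := m + 1) (by omega) hx
  have h3 := hD.le_normalizer_left i (m := m + 1) (by omega) hx
  rw [Subgroup.mem_normalizer_iff] at h2 h3 ⊢
  intro y
  rw [Subgroup.mem_inf, Subgroup.mem_inf, h2 y, h3 y]

/-- `N = 6` is impossible. -/
theorem not_six (hD : Data g a 6 T) (hm : ∀ d : ℕ, 1 ≤ d → d ≤ 3 → Commute (el g a 0) (el g a d))
    (hnc : ¬ Commute (el g a 0) (el g a 4))
    (hU : ∀ X : Subgroup G, X ≤ S g T 0 6 → S g T 0 6 ≤ Subgroup.normalizer (X : Set G) →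
      S g T 1 6 ≤ Subgroup.normalizer (X : Set G) → S g T 2 6 ≤ Subgroup.normalizer (X : Set G) → X = ⊥) : False := by
  have hc4 : cm g a 0 4 ∈ S g T 2 1 := by
    have h1 := (hD.two_sided (m := 3) hm (by simpa using hnc) (by norm_num)).2 2 1 (by norm_num) (by norm_num)
    simpa using h1
  have hc : cm g a 0 4 = el g a 2 := by
    rcases (hD.mem_one 2 _).1 hc4 with h | h
    · exact absurd (cm_eq_one.1 h) hnc
    · exact h
  have hc5 : cm g a 1 5 = el g a 3 := by
    have h1 := cm_conj (g := g) (a := a) 0 4 1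
    rw [hc, el_conj] at h1
    norm_num at h1
    exact h1.symm
  have hmem : ∀ (i k : ℤ) (n : ℕ), k ≤ i → i < k + n → n ≤ 6 → el g a i ∈ S g T k n := fun i k n h1 h2 h3 => hD.el_mem h1 h2 h3
  have r14 : (S g T 1 4).relIndex (S g T 1 5) = 2 := hD.relIndex_right 1 (m := 4) (by norm_num)
  have r24 : (S g T 2 4).relIndex (S g T 1 5) = 2 := hD.relIndex_left 1 (m := 4) (by norm_num)
  have n51 : el g a 5 ∉ S g T 1 4 := hD.el_notMem_right (by norm_num) (by norm_num)
  have n12 : el g a 1 ∉ S g T 2 4 := hD.el_notMem_left (by norm_num) (by norm_num)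
  -- the two elementary abelian subgroups of order 16
  have two : ∀ E : Subgroup G, E ≤ S g T 1 5 → Nat.card E = 16 → (∀ e ∈ E, e * e = 1) → E = S g T 1 4 ∨ E = S g T 2 4 := by
    intro E hE hcard hsq
    have c14 := hD.S_card 1 (m := 4) (by norm_num)
    have c24 := hD.S_card 2 (m := 4) (by norm_num)
    have fin1 : Finite (S g T 1 4) := Nat.finite_of_card_ne_zero (by rw [c14]; norm_num)
    have fin2 : Finite (S g T 2 4) := Nat.finite_of_card_ne_zero (by rw [c24]; norm_num)
    by_contra hcon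
    push Not at hcon
    have h1 : ¬ E ≤ S g T 1 4 := by
      intro h
      exact hcon.1 (Subgroup.eq_of_le_of_card_ge h (by rw [hcard, c14]; norm_num))
    have h2 : ¬ E ≤ S g T 2 4 := by
      intro h
      exact hcon.2 (Subgroup.eq_of_le_of_card_ge h (by rw [hcard, c24]; norm_num))
    obtain ⟨w, hwE, hw1, hw2⟩ : ∃ w ∈ E, w ∉ S g T 1 4 ∧ w ∉ S g T 2 4 := by
      rw [SetLike.not_le_iff_exists] at h1 h2
      obtain ⟨u, hu, hu1⟩ := h1
      obtain ⟨v, hv, hv1⟩ := h2
      by_cases hu2 : u ∈ S g T 2 4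
      · by_cases hv2 : v ∈ S g T 1 4
        · refine ⟨u * v, mul_mem hu hv, fun h => hu1 ?_, fun h => hv1 ?_⟩
          · have := (S g T 1 4).mul_mem h (inv_mem hv2)
            rwa [mul_inv_cancel_right] at this
          · have := (S g T 2 4).mul_mem (inv_mem hu2) h
            rwa [inv_mul_cancel_left] at this
        · exact ⟨v, hv, hv2, hv1⟩
      · exact ⟨u, hu, hu1, hu2⟩
    have h3 : w * (el g a 5)⁻¹ ∈ S g T 1 4 :=
      div_mem_two r14 (hmem 5 1 5 (by norm_num) (by norm_num) (by norm_num)) n51 (hE hwE) hw1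
    have h4 : w * (el g a 5)⁻¹ ∉ S g T 2 4 := by
      intro h
      apply hw2
      have := (S g T 2 4).mul_mem h (hmem 5 2 4 (by norm_num) (by norm_num) (by norm_num))
      rwa [inv_mul_cancel_right] at this
    have h5 : w * (el g a 5)⁻¹ * (el g a 1)⁻¹ ∈ S g T 2 4 := by
      refine div_mem_two r24 (hmem 1 1 5 (by norm_num) (by norm_num) (by norm_num)) n12 ?_ h4
      exact (S g T 1 5).mul_mem (hE hwE) (inv_mem (hmem 5 1 5 (by norm_num) (by norm_num) (by norm_num)))
    have h6 : w * (el g a 5)⁻¹ * (el g a 1)⁻¹ ∈ S g T 1 4 :=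
      (S g T 1 4).mul_mem h3 (inv_mem (hmem 1 1 4 (by norm_num) (by norm_num) (by norm_num)))
    have h7 : w * (el g a 5)⁻¹ * (el g a 1)⁻¹ ∈ S g T 2 3 :=
      hD.inter 5 1 2 4 4 (by norm_num) (by norm_num) (by norm_num) (by norm_num) (by norm_num) _ h6 h5 3 (by norm_num)
    set z := w * (el g a 5)⁻¹ * (el g a 1)⁻¹ with hz
    have h8 : w = z * el g a 1 * el g a 5 := by rw [hz]; group
    have h9 : Commute (el g a 1) z := hD.centralize _ 2 3 (by norm_num)
      (fun i hi1 hi2 => comm_of hm (by push_cast at *; omega) (by push_cast at *; omega)) h7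
    have h10 : Commute (el g a 5) z := hD.centralize _ 2 3 (by norm_num)
      (fun i hi1 hi2 => comm_of hm (by push_cast at *; omega) (by push_cast at *; omega)) h7
    have h11 : z * z = 1 := hD.sq_one hm 2 3 (by norm_num) (by norm_num) z h7
    have h12 := hsq w hwE
    rw [h8] at h12
    have h13 : z * el g a 1 * el g a 5 * (z * el g a 1 * el g a 5) = el g a 3 := by
      calc z * el g a 1 * el g a 5 * (z * el g a 1 * el g a 5)
          = z * el g a 1 * (el g a 5 * z) * el g a 1 * el g a 5 := by group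
        _ = z * el g a 1 * (z * el g a 5) * el g a 1 * el g a 5 := by rw [h10.eq]
        _ = z * (el g a 1 * z) * el g a 5 * el g a 1 * el g a 5 := by group
        _ = z * (z * el g a 1) * el g a 5 * el g a 1 * el g a 5 := by rw [h9.eq]
        _ = (z * z) * (el g a 1 * el g a 5 * el g a 1 * el g a 5) := by group
        _ = el g a 1 * el g a 5 * (el g a 1)⁻¹ * (el g a 5)⁻¹ := by rw [h11, one_mul, hD.el_inv, hD.el_inv]
        _ = el g a 3 := hc5
    rw [h13] at h12
    exact hD.el_ne 3 h12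
  have hnorm : ∀ (X : Subgroup G) (x : G), x ∈ Subgroup.normalizer (X : Set G) → MulAut.conj x • X = X := by
    intro X x hx
    ext y
    rw [Subgroup.mem_pointwise_smul_iff_inv_smul_mem, ← map_inv, MulAut.smul_def, MulAut.conj_apply, inv_inv]
    exact (Subgroup.mem_normalizer_iff''.1 hx y).symm
  have hnorm' : ∀ (X : Subgroup G) (x : G), MulAut.conj x • X = X → x ∈ Subgroup.normalizer (X : Set G) := by
    intro X x hx
    rw [Subgroup.mem_normalizer_iff'']
    intro y
    conv_lhs => rw [← hx]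
    rw [Subgroup.mem_pointwise_smul_iff_inv_smul_mem, ← map_inv, MulAut.smul_def, MulAut.conj_apply, inv_inv]
  have key : ∀ (x : G) (A : Subgroup G), x ∈ Subgroup.normalizer (S g T 1 5 : Set G) → A ≤ S g T 1 5 → Nat.card A = 16 →
      (∀ e ∈ A, e * e = 1) → MulAut.conj x • A = S g T 1 4 ∨ MulAut.conj x • A = S g T 2 4 := by
    intro x A hx hA hcard hsq
    refine two _ ?_ (by rw [card_conj, hcard]) ?_
    · have := Subgroup.pointwise_smul_le_pointwise_smul_iff (a := MulAut.conj x) |>.2 hA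
      rwa [hnorm _ x hx] at this
    · rintro e ⟨f, hf, rfl⟩
      show x * f * x⁻¹ * (x * f * x⁻¹) = 1
      have : x * f * x⁻¹ * (x * f * x⁻¹) = x * (f * f) * x⁻¹ := by group
      rw [this, hsq f hf]
      group
  have hne : S g T 2 4 ≠ S g T 1 4 := by
    intro h
    apply n12
    rw [h]
    exact hmem 1 1 4 (by norm_num) (by norm_num) (by norm_num)
  have sq14 := hD.sq_one hm 1 4 (by norm_num) (by norm_num)
  have sq24 := hD.sq_one hm 2 4 (by norm_num) (by norm_num)
  have c14 : Nat.card (S g T 1 4) = 16 := by rw [hD.S_card 1 (m := 4) (by norm_num)]; norm_num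
  have c24 : Nat.card (S g T 2 4) = 16 := by rw [hD.S_card 2 (m := 4) (by norm_num)]; norm_num
  have le14 : S g T 1 4 ≤ S g T 1 5 := hD.S_le 1 (by norm_num)
  have le24 : S g T 2 4 ≤ S g T 1 5 := hD.S_cle 1 (by norm_num)
  -- `S 0 6` normalises both
  have a1 : S g T 0 6 ≤ Subgroup.normalizer (S g T 1 4 : Set G) := hD.le_normalizer_mid 0 4 (by norm_num)
  have a2 : S g T 1 6 ≤ Subgroup.normalizer (S g T 2 4 : Set G) := hD.le_normalizer_mid 1 4 (by norm_num)
  have b1 : S g T 0 6 ≤ Subgroup.normalizer (S g T 1 5 : Set G) := hD.le_normalizer_left 0 (m := 5) (by norm_num)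
  have b2 : S g T 1 6 ≤ Subgroup.normalizer (S g T 1 5 : Set G) := hD.le_normalizer_right 1 (m := 5) (by norm_num)
  have a3 : S g T 0 6 ≤ Subgroup.normalizer (S g T 2 4 : Set G) := by
    intro x hx
    apply hnorm'
    rcases key x _ (b1 hx) le24 c24 sq24 with h | h
    · exfalso
      rw [← hnorm _ x (a1 hx)] at h
      exact hne (smul_left_cancel _ h)
    · exact h
  have a4 : S g T 1 6 ≤ Subgroup.normalizer (S g T 1 4 : Set G) := by
    intro x hx
    apply hnorm'
    rcases key x _ (b2 hx) le14 c14 sq14 with h | h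
    · exact h
    · exfalso
      rw [← hnorm _ x (a2 hx)] at h
      exact hne (smul_left_cancel _ h).symm
  have a5 : S g T 2 6 ≤ Subgroup.normalizer (S g T 2 4 : Set G) := by
    have h := Subgroup.pointwise_smul_le_pointwise_smul_iff (a := MulAut.conj g) |>.2 a4
    rw [smul_normalizer, conj_S_one, conj_S_one] at h
    exact h
  have h := hU (S g T 2 4) (hD.mono (by norm_num) (by norm_num) (by norm_num)) a3 a2 a5
  rw [h, Subgroup.card_bot] at c24
  norm_num at c24

/-- **The bound**: `N ≤ 4`. -/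
theorem main (hD : Data g a N T)
    (hU : ∀ X : Subgroup G, X ≤ S g T 0 N → S g T 0 N ≤ Subgroup.normalizer (X : Set G) →
      S g T 1 N ≤ Subgroup.normalizer (X : Set G) → S g T 2 N ≤ Subgroup.normalizer (X : Set G) → X = ⊥) :
    N = 1 ∨ (N = 2 ∧ Commute (el g a 0) (el g a 1)) ∨
    (N = 3 ∧ Commute (el g a 0) (el g a 1) ∧ cm g a 0 2 = el g a 1) ∨
    (N = 4 ∧ Commute (el g a 0) (el g a 1) ∧ Commute (el g a 0) (el g a 2) ∧ cm g a 0 3 ≠ 1 ∧
      cm g a 0 3 ∈ S g T 1 2) := by
  have hpos := hD.pos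
  -- the U-step
  have ustep : ∀ m : ℕ, m < N → (∀ d : ℕ, 1 ≤ d → d ≤ m → Commute (el g a 0) (el g a d)) → 2 * m ≤ N := by
    intro m hmN hm
    by_contra hcon
    have h1 := hU (S g T m 1) (hD.mono (by omega) (by push_cast; omega) le_rfl)
      (hD.le_normalizer_zpowers m le_rfl fun j hj1 hj2 => comm_of hm (by omega) (by omega))
      (hD.le_normalizer_zpowers m le_rfl fun j hj1 hj2 => comm_of hm (by omega) (by omega))
      (hD.le_normalizer_zpowers m le_rfl fun j hj1 hj2 => comm_of hm (by omega) (by omega))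
    have h2 := (hD.mem_one m (el g a m)).2 (Or.inr rfl)
    rw [h1, Subgroup.mem_bot] at h2
    exact hD.el_ne m h2
  -- maximal m
  by_cases hab : ∀ d : ℕ, 1 ≤ d → d ≤ N - 1 → Commute (el g a 0) (el g a d)
  · have h1 := ustep (N - 1) (by omega) hab
    have h2 : N = 1 ∨ N = 2 := by omega
    rcases h2 with h2 | h2
    · exact Or.inl h2
    · subst h2
      exact Or.inr (Or.inl ⟨rfl, by simpa using hab 1 le_rfl le_rfl⟩)
  · push Not at hab
    classical
    have hex : ∃ d : ℕ, 1 ≤ d ∧ d ≤ N - 1 ∧ ¬ Commute (el g a 0) (el g a d) := hab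
    set d := Nat.find hex with hd
    obtain ⟨hd1, hd2, hd3⟩ := Nat.find_spec hex
    rw [← hd] at hd1 hd2 hd3
    obtain ⟨m, hdm⟩ : ∃ m, d = m + 1 := ⟨d - 1, by omega⟩
    have hm : ∀ e : ℕ, 1 ≤ e → e ≤ m → Commute (el g a 0) (el g a e) := by
      intro e he1 he2
      by_contra hcon
      have := Nat.find_min hex (m := e) (by omega)
      exact this ⟨he1, by omega, hcon⟩
    have hnc : ¬ Commute (el g a 0) (el g a (m + 1)) := by
      rw [hdm] at hd3
      push_cast at hd3
      exact hd3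
    have h1 := ustep m (by omega) hm
    obtain ⟨h2, h3⟩ := hD.two_sided hm hnc (by omega)
    have h4 : (m = 1 ∧ N = 3) ∨ (m = 2 ∧ N = 4) ∨ (m = 3 ∧ N = 6) := by omega
    rcases h4 with ⟨rfl, rfl⟩ | ⟨rfl, rfl⟩ | ⟨rfl, rfl⟩
    · right; right; left
      refine ⟨rfl, by simpa using hm 1 le_rfl le_rfl, ?_⟩
      have h5 := h3 1 1 (by norm_num) (by norm_num)
      have e : ((1 : ℕ) : ℤ) + 1 = 2 := by norm_num
      rw [e] at h5 hnc
      push_cast at h5
      rcases (hD.mem_one 1 _).1 h5 with h | h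
      · exact absurd (cm_eq_one.1 h) hnc
      · exact h
    · right; right; right
      have e : ((2 : ℕ) : ℤ) + 1 = 3 := by norm_num
      have h5 := h3 1 2 (by norm_num) (by norm_num)
      rw [e] at h5 hnc
      push_cast at h5
      exact ⟨rfl, by simpa using hm 1 le_rfl (by norm_num), by simpa using hm 2 (by norm_num) le_rfl,
        fun h => hnc (cm_eq_one.1 h), h5⟩
    · exfalso
      refine hD.not_six hm ?_ hU
      have e : ((3 : ℕ) : ℤ) + 1 = 4 := by norm_num
      rwa [e] at hnc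

end Data

end Cfsg.Agent.H581.Sims
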