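import Cfsg.Agent.H581.MonMI
import Cfsg.Agent.H384.LargeIdxB
import Cfsg.Agent.H468.HCS.Base
import Cfsg.Agent.H94.Sp.AC
import Cfsg.Agent.H660.SporPrimeIndex

/-!
# Hall coverings of sporadic groups, first part (helper581)

The groups with one prime not connected to 2 (their Hall subgroups would have prime index), and those where the
minimal degree is known to be large: `Co2`, `B`, `M`.
-/

set_option autoImplicit false

namespace Cfsg.Agent.H581.SpA

open Subgroup Cfsg Cfsg.Agent.H94.PG Cfsg.Agent.H94.PG.Sp Cfsg.Agent.H468.HCS Cfsg.Agent.H867.MinIdx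

universe u

variable {S : Type u} [Group S] [Finite S] {σ : Set ℕ}

omit [Finite S] in
theorem mem_of_nr (hc : HC S σ) {q : ℕ} (h : Nr S q) : q ∈ σ := by
  rcases h with rfl | h
  · exact hc.two
  · obtain ⟨h1, h2, h3, x, y, hx, hy, hxy⟩ := h
    exact hc.adj hc.two ⟨h2, h1, Ne.symm h3, y, x, hy, hx, hxy.symm⟩

omit [Finite S] in
theorem not_comm [IsSimpleGroup S] {N : ℕ} (hN : Nat.card S = N) (hp : ¬ N.Prime) : ¬ IsMulCommutative S := by
  intro h
  apply hp
  rw [← hN]
  let _ : CommGroup S := { (inferInstance : Group S) with mul_comm := h.is_comm.comm }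
  exact IsSimpleGroup.prime_card

/-- the possible indices -/
theorem idx [IsSimpleGroup S] (hc : HC S σ) (hsp : IsSporadicGroup S) {N m : ℕ} {R : List ℕ} (hN : Nat.card S = N)
    (h11 : N ≠ 7920) (h23 : N ≠ 10200960) (hnp : ¬ N.Prime) (hNm : N = R.prod * m) (hRp : ∀ r ∈ R, r.Prime)
    (hRm : ∀ r ∈ R, ¬ r ∣ m) (hnr : ∀ q : ℕ, q.Prime → q ∣ N → q ∉ R → Nr S q) {H : Subgroup S}
    (hH : IsHallFor σ H) : H.index ∈ comps R := by
  refine comp_index hc hH hN hNm hRp hRm (fun q hq hd hR => mem_of_nr hc (hnr q hq hd hR)) fun K p hp hK => ?_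
  rcases H660.SporPrimeIndex.sporadic_prime_index (not_comm hN hnp) hsp K p hp hK with ⟨-, h⟩ | ⟨-, h⟩
  · exact h11 (hN.symm.trans (NotCT.Orders.m11 h))
  · exact h23 (hN.symm.trans (NotCT.Orders.m23 h))

theorem exists_hall (hc : HC S σ) {N : ℕ} (hN : Nat.card S = N) (h2 : 2 ∣ N) : ∃ H : Subgroup S, IsHallFor σ H :=
  hc.exists_hall (by rw [hN]; exact h2)

/-- one prime not connected to 2 -/
theorem row_one [IsSimpleGroup S] (hc : HC S σ) (hsp : IsSporadicGroup S) {N m r : ℕ} (hN : Nat.card S = N)
    (h2 : 2 ∣ N) (h11 : N ≠ 7920) (h23 : N ≠ 10200960) (hnp : ¬ N.Prime) (hNm : N = r * m) (hr : r.Prime)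
    (hrm : ¬ r ∣ m) (hnr : ∀ q : ℕ, q.Prime → q ∣ N → q ∉ [r] → Nr S q) : False := by
  obtain ⟨H, hH⟩ := exists_hall hc hN h2
  have h := idx hc hsp (R := [r]) hN h11 h23 hnp (by simpa using hNm) (by simpa using hr) (by simpa using hrm) hnr hH
  unfold comps at h
  simp [subs] at h

/-- a large minimal degree -/
theorem row_mi [IsSimpleGroup S] (hc : HC S σ) (hsp : IsSporadicGroup S) {N m b : ℕ} {R : List ℕ}
    (hN : Nat.card S = N) (h2 : 2 ∣ N) (h11 : N ≠ 7920) (h23 : N ≠ 10200960) (hnp : ¬ N.Prime) (hNm : N = R.prod * m)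
    (hRp : ∀ r ∈ R, r.Prime) (hRm : ∀ r ∈ R, ¬ r ∣ m) (hnr : ∀ q : ℕ, q.Prime → q ∣ N → q ∉ R → Nr S q)
    (hmi : MI S b) (hb : ∀ n ∈ comps R, n < b) : False := by
  obtain ⟨H, hH⟩ := exists_hall hc hN h2
  have h := idx hc hsp hN h11 h23 hnp hNm hRp hRm hnr hH
  have h1 := hmi.index H (hc.ne_top hH)
  have h3 := hb _ h
  omega

variable [IsSimpleGroup S]

theorem m12 (hc : HC S σ) (h : Spor.IsoM12 S) : False :=
  row_one hc (by unfold IsSporadicGroup; tauto) (NotCT.Orders.m12 h) (by norm_num) (by norm_num) (by norm_num)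
    (by norm_num) (r := 11) (m := 8640) (by norm_num) (by norm_num) (by norm_num) fun _ hq hd hR => nr_m12' h hq hd hR

theorem j2 (hc : HC S σ) (h : Spor.IsoJ2 S) : False :=
  row_one hc (by unfold IsSporadicGroup; tauto) (NotCT.Orders.j2 h) (by norm_num) (by norm_num) (by norm_num)
    (by norm_num) (r := 7) (m := 86400) (by norm_num) (by norm_num) (by norm_num) fun _ hq hd hR => nr_j2 h hq hd hR

theorem mcl (hc : HC S σ) (h : Spor.IsoMcL S) : False :=
  row_one hc (by unfold IsSporadicGroup; tauto) (NotCT.Orders.mcl h) (by norm_num) (by norm_num) (by norm_num)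
    (by norm_num) (r := 11) (m := 898128000 / 11) (by norm_num) (by norm_num) (by norm_num)
    fun _ hq hd hR => nr_mcl h hq hd hR

theorem he (hc : HC S σ) (h : Spor.IsoHe S) : False :=
  row_one hc (by unfold IsSporadicGroup; tauto) (NotCT.Orders.he h) (by norm_num) (by norm_num) (by norm_num)
    (by norm_num) (r := 17) (m := 4030387200 / 17) (by norm_num) (by norm_num) (by norm_num)
    fun _ hq hd hR => nr_he h hq hd hR

theorem ru (hc : HC S σ) (h : Spor.IsoRu S) : False :=
  row_one hc (by unfold IsSporadicGroup; tauto) (NotCT.Orders.ru h) (by norm_num) (by norm_num) (by norm_num)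
    (by norm_num) (r := 29) (m := 145926144000 / 29) (by norm_num) (by norm_num) (by norm_num)
    fun _ hq hd hR => nr_ru h hq hd hR

theorem co1 (hc : HC S σ) (h : Spor.IsoCo1 S) : False :=
  row_one hc (by unfold IsSporadicGroup; tauto) (NotCT.Orders.co1 h) (by norm_num) (by norm_num) (by norm_num)
    (by norm_num) (r := 23) (m := 4157776806543360000 / 23) (by norm_num) (by norm_num) (by norm_num)
    fun _ hq hd hR => nr_co1 h hq hd hR

theorem co3 (hc : HC S σ) (h : Spor.IsoCo3 S) : False :=
  row_one hc (by unfold IsSporadicGroup; tauto) (NotCT.Orders.co3 h) (by norm_num) (by norm_num) (by norm_num)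
    (by norm_num) (r := 23) (m := 495766656000 / 23) (by norm_num) (by norm_num) (by norm_num)
    fun _ hq hd hR => nr_co3 h hq hd hR

theorem fi22 (hc : HC S σ) (h : Spor.IsoFi22 S) : False :=
  row_one hc (by unfold IsSporadicGroup; tauto) (NotCT.Orders.fi22 h) (by norm_num) (by norm_num) (by norm_num)
    (by norm_num) (r := 13) (m := 64561751654400 / 13) (by norm_num) (by norm_num) (by norm_num)
    fun _ hq hd hR => nr_fi22 h hq hd hR

theorem hn (hc : HC S σ) (h : Spor.IsoHN S) : False :=
  row_one hc (by unfold IsSporadicGroup; tauto) (NotCT.Orders.hn h) (by norm_num) (by norm_num) (by norm_num)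
    (by norm_num) (r := 19) (m := 273030912000000 / 19) (by norm_num) (by norm_num) (by norm_num)
    fun _ hq hd hR => nr_hn h hq hd hR

theorem co2 (hc : HC S σ) (h : Spor.IsoCo2 S) : False := by
  refine row_mi hc (by unfold IsSporadicGroup; tauto) (NotCT.Orders.co2 h) (by norm_num) (by norm_num) (by norm_num)
    (by norm_num) (R := [11, 23]) (m := 42305421312000 / 253) (by norm_num) ?_ ?_
    (fun _ hq hd hR => nr_co2 h hq hd hR) (b := 672) ?_ (by decide +kernel)
  · intro r hr
    simp only [List.mem_cons, List.not_mem_nil, or_false] at hr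
    rcases hr with rfl | rfl <;> norm_num
  · intro r hr
    simp only [List.mem_cons, List.not_mem_nil, or_false] at hr
    rcases hr with rfl | rfl <;> norm_num
  · obtain ⟨e⟩ := h
    have hs : IsSimpleGroup Spor.Co2 := e.symm.isSimpleGroup
    exact (H867.SporMI.co2 hs).congr e.symm

theorem b (hc : HC S σ) (h : Spor.IsoB S) : False := by
  refine row_mi hc (by unfold IsSporadicGroup; tauto) (NotCT.Orders.b h) (by norm_num) (by norm_num) (by norm_num)
    (by norm_num) (R := [31, 47]) (m := 4154781481226426191177580544000000 / 1457) (by norm_num) ?_ ?_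
    (fun _ hq hd hR => nr_b h hq hd hR) (b := 2752512) ?_ (by decide +kernel)
  · intro r hr
    simp only [List.mem_cons, List.not_mem_nil, or_false] at hr
    rcases hr with rfl | rfl <;> norm_num
  · intro r hr
    simp only [List.mem_cons, List.not_mem_nil, or_false] at hr
    rcases hr with rfl | rfl <;> norm_num
  · obtain ⟨e⟩ := h
    exact H384.LargeIdxB.baby.congr e.symm

theorem m (hc : HC S σ) (h : Spor.IsoM S) : False := by
  refine row_mi hc (by unfold IsSporadicGroup; tauto) (NotCT.Orders.m h) (by norm_num) (by norm_num) (by norm_num)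
    (by norm_num) (R := [29, 41, 59, 71])
    (m := 808017424794512875886459904961710757005754368000000000 / 4980721) (by norm_num) ?_ ?_
    (fun _ hq hd hR => nr_m h hq hd hR) (b := 5505024) ?_ (by decide +kernel)
  · intro r hr
    simp only [List.mem_cons, List.not_mem_nil, or_false] at hr
    rcases hr with rfl | rfl | rfl | rfl <;> norm_num
  · intro r hr
    simp only [List.mem_cons, List.not_mem_nil, or_false] at hr
    rcases hr with rfl | rfl | rfl | rfl <;> norm_num
  · obtain ⟨e⟩ := h
    exact MonMI.monster.congr e.symm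

/-- a simple group with a proper subgroup of index `n` has order dividing `n!` -/
theorem dvd_factorial {H : Subgroup S} (hH : H ≠ ⊤) : Nat.card S ∣ H.index.factorial := by
  classical
  let f : S →* Equiv.Perm (S ⧸ H) := MulAction.toPermHom S (S ⧸ H)
  have hf : f.ker = ⊥ := by
    rcases IsSimpleGroup.eq_bot_or_eq_top_of_normal f.ker inferInstance with h | h
    · exact h
    · exfalso
      apply hH
      rw [eq_top_iff]
      intro x _
      have h1 : x⁻¹ ∈ f.ker := by rw [h]; trivial
      have h2 : f x⁻¹ = 1 := h1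
      have h3 : x⁻¹ • ((1 : S) : S ⧸ H) = ((1 : S) : S ⧸ H) := by
        have h4 := Equiv.ext_iff.1 h2 ((1 : S) : S ⧸ H)
        exact h4
      have h5 : ((x⁻¹ * 1 : S) : S ⧸ H) = ((1 : S) : S ⧸ H) := h3
      rw [QuotientGroup.eq] at h5
      simpa using h5
  have h1 : Nat.card S ∣ Nat.card (Equiv.Perm (S ⧸ H)) :=
    Subgroup.card_dvd_of_injective f ((MonoidHom.ker_eq_bot_iff f).1 hf)
  have h2 : Nat.card (Equiv.Perm (S ⧸ H)) = (Nat.card (S ⧸ H)).factorial := Nat.card_perm
  rw [h2] at h1
  exact h1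

theorem tits (hc : HC S σ) (h : Lie.IsoTits S) : False := by
  have hN := NotCT.Orders.tits h
  obtain ⟨H, hH⟩ := exists_hall hc hN (by norm_num)
  have h1 := index_dvd hH hN (R := [13]) (m := 17971200 / 13) (by norm_num) (by simp)
    (fun q hq hd hR => mem_of_nr hc (nr_tits h hq hd hR))
  have h2 : H.index = 1 ∨ H.index = 13 := (Nat.dvd_prime (by norm_num)).1 (by simpa using h1)
  rcases h2 with h2 | h2
  · exact hc.ne_top hH (Subgroup.index_eq_one.1 h2)
  · have h3 := dvd_factorial (hc.ne_top hH)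
    rw [h2, hN] at h3
    revert h3
    decide +kernel

end Cfsg.Agent.H581.SpA
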