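import Cfsg.Agent.H581.SpA
import Cfsg.Agent.H792.Sp.ConwayFive
import Cfsg.Agent.S0283
import Cfsg.Agent.S2149

/-!
# Hall coverings of `HS` (helper581)

`PSU₃(5)` is in `HS`, has no proper subgroup of index below 50, so it would be transitive on 77 points.
-/

set_option autoImplicit false

namespace Cfsg.Agent.H581.SpHS

open Subgroup Cfsg Cfsg.Agent.H94.PG Cfsg.Agent.H94.PG.Sp Cfsg.Agent.H468.HCS Cfsg.Agent.H867.MinIdx

universe u

/-- an action on less than `100` points of a group without subgroups of index below `50` -/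
theorem no_small {K P : Type*} [Group K] [Finite K] [Group P] [Finite P] (f : P →* K) (H : Subgroup K) {n b : ℕ}
    (hn : H.index = n) (hb : ∀ L : Subgroup P, L ≠ ⊤ → b ≤ L.index) (hnb : n < 2 * b) (hP : ¬ n ∣ Nat.card P)
    (hH : ¬ Nat.card P ∣ Nat.card H) (hf : Function.Injective f) : False := by
  have hfin : Finite (K ⧸ H) := Subgroup.finite_quotient_of_finiteIndex
  let _ : MulAction P (K ⧸ H) := MulAction.compHom (K ⧸ H) f
  have hsm : ∀ (g : P) (x : K ⧸ H), g • x = f g • x := fun _ _ => rfl
  -- every stabilizer is proper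
  have hst : ∀ x : K ⧸ H, MulAction.stabilizer P x ≠ ⊤ := by
    intro x htop
    apply hH
    obtain ⟨k, rfl⟩ := QuotientGroup.mk_surjective x
    let φ : P →* K := (MulAut.conj k⁻¹).toMonoidHom.comp f
    have hφ : Function.Injective φ := (MulAut.conj k⁻¹).injective.comp hf
    have hr : φ.range ≤ H := by
      rintro _ ⟨g, rfl⟩
      have h1 : g ∈ MulAction.stabilizer P (QuotientGroup.mk k : K ⧸ H) := by rw [htop]; trivial
      have h2 : f g • (QuotientGroup.mk k : K ⧸ H) = QuotientGroup.mk k := h1
      have h3 : (QuotientGroup.mk (f g * k) : K ⧸ H) = QuotientGroup.mk k := h2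
      have h4 := QuotientGroup.eq.mp h3.symm
      have h5 : φ g = k⁻¹ * (f g * k) := by
        simp [φ, mul_assoc]
      rw [h5]
      exact h4
    have hc : Nat.card φ.range = Nat.card P := (Nat.card_congr (MonoidHom.ofInjective hφ).toEquiv).symm
    rw [← hc]
    exact Subgroup.card_dvd_of_le hr
  have hcard : Nat.card (K ⧸ H) = n := hn
  have horb : ∀ x : K ⧸ H, b ≤ (MulAction.orbit P x).ncard := by
    intro x
    have h1 := hb _ (hst x)
    rwa [MulAction.index_stabilizer] at h1
  -- one orbit
  have x0 : K ⧸ H := QuotientGroup.mk 1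
  have htop : MulAction.orbit P x0 = Set.univ := by
    by_contra hne
    obtain ⟨y, hy⟩ := (Set.ne_univ_iff_exists_notMem _).mp hne
    have hdis : Disjoint (MulAction.orbit P x0) (MulAction.orbit P y) := by
      rw [Set.disjoint_left]
      intro z hz hz'
      apply hy
      have h1 := MulAction.orbit_eq_iff.mpr hz
      have h2 := MulAction.orbit_eq_iff.mpr hz'
      rw [← h1, h2]
      exact MulAction.mem_orbit_self y
    have h1 := Set.ncard_union_eq hdis (Set.toFinite _) (Set.toFinite _)
    have h2 : (MulAction.orbit P x0 ∪ MulAction.orbit P y).ncard ≤ Nat.card (K ⧸ H) := by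
      rw [← Set.ncard_univ]
      exact Set.ncard_le_ncard (Set.subset_univ _) (Set.toFinite _)
    have h3 := horb x0
    have h4 := horb y
    omega
  apply hP
  have h1 := MulAction.index_stabilizer P x0
  rw [htop, Set.ncard_univ, hcard] at h1
  rw [← h1]
  exact Subgroup.index_dvd_card _

open Cfsg.Agent.H792.SpU35 in
theorem hs_std (H : Subgroup Spor.HS) (hn : H.index = 77) : False := by
  have : Finite Spor.HS := Nat.finite_of_card_ne_zero (by rw [card_HS]; norm_num)
  obtain ⟨x, T⟩ := exists_tri sq_V hs_pair.1 hs_pair.2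
  obtain ⟨F, _, _, hF⟩ := exists_field
  obtain ⟨e⟩ := T.exists_hom hF
  let f := (Co0.subtype.comp (MulAction.stabilizer Co0 _ ⊓ MulAction.stabilizer Co0 _ ⊓
    MulAction.stabilizer Co0 x).subtype).codRestrict Spor.HS fun g => mem_HS g.2.1.1 g.2.1.2
  have hf : Function.Injective f := by
    intro a b h
    have h1 := congrArg Subtype.val h
    exact Subtype.ext (Subtype.ext h1)
  have hcard := card_psu hF
  have hfin : Finite (PSU 3 F 5) := Nat.finite_of_card_ne_zero (by rw [hcard]; norm_num)
  refine no_small (f.comp e.toMonoidHom) H hn (S2149.result hF).1 (by norm_num) (by rw [hcard]; norm_num) ?_ ?_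
  · have h1 := H.card_mul_index
    rw [hn, card_HS] at h1
    have h2 : Nat.card H = 576000 := by omega
    rw [hcard, h2]
    norm_num
  · rw [MonoidHom.coe_comp]
    exact hf.comp e.injective

theorem hs {S : Type u} [Group S] [Finite S] {σ : Set ℕ} [IsSimpleGroup S] (hc : HC S σ) (h : Spor.IsoHS S) :
    False := by
  have hN := NotCT.Orders.hs h
  obtain ⟨H, hH⟩ := SpA.exists_hall hc hN (by norm_num)
  have h1 := SpA.idx hc (by unfold IsSporadicGroup; tauto) (R := [7, 11]) (m := 576000) hN (by norm_num) (by norm_num)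
    (by norm_num) (by norm_num) (by
      intro r hr
      simp only [List.mem_cons, List.not_mem_nil, or_false] at hr
      rcases hr with rfl | rfl <;> norm_num) (by
      intro r hr
      simp only [List.mem_cons, List.not_mem_nil, or_false] at hr
      rcases hr with rfl | rfl <;> norm_num) (fun _ hq hd hR => nr_hs h hq hd hR) hH
  have h2 : comps [7, 11] = [77] := by decide +kernel
  rw [h2, List.mem_singleton] at h1
  obtain ⟨e⟩ := h
  refine hs_std (H.map e.toMonoidHom) ?_
  rw [← h1]
  exact Subgroup.index_map_equiv H e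

end Cfsg.Agent.H581.SpHS
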