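import Cfsg.Agent.H581.SpA
import Cfsg.Agent.H581.SpHS
import Cfsg.Agent.H468.HCS.RowM
import Cfsg.Agent.H468.HCS.RowJ1
import Cfsg.Agent.H468.HCS.RowJ3
import Cfsg.Agent.H468.HCS.RowJ4
import Cfsg.Agent.H468.HCS.RowLy
import Cfsg.Agent.H468.HCS.RowON
import Cfsg.Agent.H468.HCS.RowTh
import Cfsg.Agent.H468.HCS.RowSuz
import Cfsg.Agent.H468.HCS.RowFi23
import Cfsg.Agent.H468.HCS.RowFi24
import Cfsg.Agent.OrdDiv.Table

/-!
# Hall coverings of sporadic groups and the Tits group: assembly (helper581)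
-/

set_option autoImplicit false

namespace Cfsg.Agent.H581.SporAll

open Cfsg Cfsg.Agent.H468.HCS

universe u

/-- `M₁₁` and `M₂₂` are the only sporadic groups with a Hall covering -/
theorem hsp (hS : ∀ (X : Type u) [Group X] [Finite X] [IsSimpleGroup X], IsKnownSimple' X)
    (S : Type u) [Group S] [Finite S] [IsSimpleGroup S] (σ : Set ℕ) (hc : HC S σ) :
    (IsSporadicGroup S → Spor.IsoM11 S ∨ Spor.IsoM22 S) ∧ (Lie.IsoTits S → False) := by
  have T : OrdDiv.OrderTable.{u} := OrdDiv.table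
  refine ⟨?_, SpA.tits hc⟩
  rintro (h | h | h | h | h | h | h | h | h | h | h | h | h | h | h | h | h | h | h | h | h | h | h | h | h | h)
  · exact Or.inl h
  · exact (SpA.m12 hc h).elim
  · exact Or.inr h
  · exact (no_m23 T hS hc h).elim
  · exact (no_m24 T hS hc h).elim
  · exact (no_j1 T hS hc h).elim
  · exact (SpA.j2 hc h).elim
  · exact (no_j3 T hS hc h).elim
  · exact (no_j4 T hS hc h).elim
  · exact (SpA.co1 hc h).elim
  · exact (SpA.co2 hc h).elim
  · exact (SpA.co3 hc h).elim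
  · exact (SpA.mcl hc h).elim
  · exact (SpHS.hs hc h).elim
  · exact (no_suz T hS hc h).elim
  · exact (SpA.he hc h).elim
  · exact (SpA.ru hc h).elim
  · exact (no_on T hS hc h).elim
  · exact (no_ly T hS hc h).elim
  · exact (SpA.fi22 hc h).elim
  · exact (no_fi23 T hS hc h).elim
  · exact (no_fi24 T hS hc h).elim
  · exact (SpA.hn hc h).elim
  · exact (no_th T hS hc h).elim
  · exact (SpA.b hc h).elim
  · exact (SpA.m hc h).elim

end Cfsg.Agent.H581.SporAll
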